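import Mathlib

set_option autoImplicit false

/-!
Counting subgroups of `p`-groups: maximal subgroups above a given subgroup (exact count via
`Hom(G, Z/p)`), cyclic maximal subgroups, cyclic subgroups of given order (Miller),
Kulakoff's congruence modulo `p ^ 2`.
-/

namespace Cfsg.Agent.Lib.Helper69

open Subgroup

section MaxCount

variable {G : Type*} [Group G]

/-- the index-`p` subgroups containing `K` -/
abbrev MaxOver (p : ℕ) (K : Subgroup G) := {M : Subgroup G // M.index = p ∧ K ≤ M}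

/-- homs to `Z/p` vanishing on `K` -/
def homOver (p : ℕ) (K : Subgroup G) : Subgroup (G →* Multiplicative (ZMod p)) where
  carrier := {f | K ≤ f.ker}
  one_mem' := by intro x _; simp
  mul_mem' := by
    intro f g hf hg x hx
    have h1 := hf hx
    have h2 := hg hx
    rw [MonoidHom.mem_ker] at h1 h2 ⊢
    rw [MonoidHom.mul_apply, h1, h2, one_mul]
  inv_mem' := by
    intro f hf x hx
    have h1 := hf hx
    rw [MonoidHom.mem_ker] at h1 ⊢
    rw [MonoidHom.inv_apply, h1, inv_one]

theorem mem_homOver (p : ℕ) (K : Subgroup G) (f : G →* Multiplicative (ZMod p)) :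
    f ∈ homOver p K ↔ K ≤ f.ker := Iff.rfl

theorem finite_hom_zmod [Finite G] (p : ℕ) [Fact p.Prime] :
    Finite (G →* Multiplicative (ZMod p)) :=
  Finite.of_injective (fun f => (f : G → Multiplicative (ZMod p))) DFunLike.coe_injective

theorem card_mult_zmod (p : ℕ) [Fact p.Prime] : Nat.card (Multiplicative (ZMod p)) = p := by
  rw [Nat.card_eq_fintype_card, Fintype.card_multiplicative, ZMod.card]

theorem card_homOver [Finite G] (p : ℕ) [Fact p.Prime] (K : Subgroup G) :
    ∃ c, Nat.card (homOver p K) = p ^ c := by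
  have := finite_hom_zmod (G := G) p
  apply (IsPGroup.iff_card).mp
  intro f
  refine ⟨1, ?_⟩
  rw [pow_one]
  apply Subtype.ext
  apply MonoidHom.ext
  intro x
  have h := pow_card_eq_one' (G := Multiplicative (ZMod p)) (x := f.1 x)
  rw [card_mult_zmod] at h
  simpa using h

/-- number of homs with a given kernel of index `p` -/
theorem card_hom_ker_eq [Finite G] (p : ℕ) [Fact p.Prime] (M : Subgroup G) [M.Normal]
    (hM : M.index = p) :
    Nat.card {f : G →* Multiplicative (ZMod p) // f.ker = M} = p - 1 := by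
  classical
  have hp : p.Prime := Fact.out
  have hne : M ≠ ⊤ := by
    intro h
    rw [h, Subgroup.index_top] at hM
    exact hp.one_lt.ne hM
  obtain ⟨g0, hg0⟩ : ∃ g0, g0 ∉ M := by
    by_contra h
    push Not at h
    exact hne (eq_top_iff.mpr fun x _ => h x)
  have hcardQ : Nat.card (G ⧸ M) = p := hM
  have hcardA : Nat.card (Multiplicative (ZMod p)) = p := card_mult_zmod p
  have hg0' : (g0 : G ⧸ M) ≠ 1 := by
    intro h
    exact hg0 ((QuotientGroup.eq_one_iff g0).mp h)
  have hgen : ∀ x : G, ∃ k : ℕ, (g0 ^ k)⁻¹ * x ∈ M := by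
    intro x
    have h1 : ((x : G ⧸ M)) ∈ Subgroup.zpowers (g0 : G ⧸ M) := by
      rw [zpowers_eq_top_of_prime_card hcardQ hg0']
      exact Subgroup.mem_top _
    rw [← mem_powers_iff_mem_zpowers] at h1
    obtain ⟨k, hk⟩ := h1
    refine ⟨k, ?_⟩
    apply QuotientGroup.eq.mp
    simpa using hk
  -- base hom
  let fM : G →* Multiplicative (ZMod p) :=
    (mulEquivOfPrimeCardEq hcardQ hcardA).toMonoidHom.comp (QuotientGroup.mk' M)
  have hfM : ∀ x, fM x = 1 ↔ x ∈ M := by
    intro x
    show (mulEquivOfPrimeCardEq hcardQ hcardA) (x : G ⧸ M) = 1 ↔ x ∈ M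
    rw [MulEquiv.map_eq_one_iff, QuotientGroup.eq_one_iff]
  have hb : fM g0 ≠ 1 := fun h => hg0 ((hfM g0).mp h)
  have hbgen : ∀ a : Multiplicative (ZMod p), ∃ k : ℕ, (fM g0) ^ k = a := by
    intro a
    have h1 : a ∈ Subgroup.zpowers (fM g0) := by
      rw [zpowers_eq_top_of_prime_card hcardA hb]
      exact Subgroup.mem_top _
    rw [← mem_powers_iff_mem_zpowers] at h1
    exact h1
  have hordA : ∀ a : Multiplicative (ZMod p), a ≠ 1 → orderOf a = p := by
    intro a ha
    have h1 : orderOf a ∣ p := by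
      have := orderOf_dvd_natCard a
      rwa [hcardA] at this
    rcases (Nat.dvd_prime hp).mp h1 with h | h
    · exact absurd (orderOf_eq_one_iff.mp h) ha
    · exact h
  let φ : {f : G →* Multiplicative (ZMod p) // f.ker = M} →
      {a : Multiplicative (ZMod p) // a ≠ 1} := fun f => ⟨f.1 g0, by
    intro h
    apply hg0
    rw [← f.2]
    exact h⟩
  have hinj : Function.Injective φ := by
    intro f f' hff
    have h0 : f.1 g0 = f'.1 g0 := congrArg Subtype.val hff
    apply Subtype.ext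
    apply MonoidHom.ext
    intro x
    obtain ⟨k, hk⟩ := hgen x
    have h1 : f.1 ((g0 ^ k)⁻¹ * x) = 1 := by
      have : (g0 ^ k)⁻¹ * x ∈ f.1.ker := by rw [f.2]; exact hk
      exact this
    have h2 : f'.1 ((g0 ^ k)⁻¹ * x) = 1 := by
      have : (g0 ^ k)⁻¹ * x ∈ f'.1.ker := by rw [f'.2]; exact hk
      exact this
    have e1 : f.1 x = (f.1 g0) ^ k := by
      have : f.1 x = f.1 (g0 ^ k) * f.1 ((g0 ^ k)⁻¹ * x) := by
        rw [← map_mul]; congr 1; group
      rw [this, h1, mul_one, map_pow]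
    have e2 : f'.1 x = (f'.1 g0) ^ k := by
      have : f'.1 x = f'.1 (g0 ^ k) * f'.1 ((g0 ^ k)⁻¹ * x) := by
        rw [← map_mul]; congr 1; group
      rw [this, h2, mul_one, map_pow]
    rw [e1, e2, h0]
  have hsurj : Function.Surjective φ := by
    intro a
    obtain ⟨k, hk⟩ := hbgen a.1
    have hker : (fM ^ k).ker = M := by
      ext x
      rw [MonoidHom.mem_ker, MonoidHom.pow_apply]
      constructor
      · intro h
        by_contra hx
        have h1 : fM x ≠ 1 := fun h' => hx ((hfM x).mp h')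
        have h2 : p ∣ k := by
          rw [← hordA _ h1]
          exact orderOf_dvd_of_pow_eq_one h
        apply a.2
        rw [← hk]
        obtain ⟨j, rfl⟩ := h2
        rw [pow_mul]
        have := pow_card_eq_one' (G := Multiplicative (ZMod p)) (x := fM g0)
        rw [hcardA] at this
        rw [this, one_pow]
      · intro h
        rw [(hfM x).mpr h, one_pow]
    refine ⟨⟨fM ^ k, hker⟩, ?_⟩
    apply Subtype.ext
    show (fM ^ k) g0 = a.1
    rw [MonoidHom.pow_apply, hk]
  rw [Nat.card_congr (Equiv.ofBijective φ ⟨hinj, hsurj⟩)]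
  have h3 := Nat.card_congr (Equiv.optionSubtypeNe (1 : Multiplicative (ZMod p)))
  rw [Finite.card_option, hcardA] at h3
  omega

theorem index_ker_of_ne_one (p : ℕ) [Fact p.Prime] (f : G →* Multiplicative (ZMod p))
    (hf : f ≠ 1) : f.ker.index = p := by
  have hp : p.Prime := Fact.out
  rw [Subgroup.index_ker]
  haveI : Fact (Nat.card (Multiplicative (ZMod p))).Prime := ⟨by rw [card_mult_zmod]; exact hp⟩
  rcases Subgroup.eq_bot_or_eq_top_of_prime_card f.range with h | h
  · exact absurd (MonoidHom.range_eq_bot_iff.mp h) hf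
  · rw [h, Subgroup.card_top, card_mult_zmod]

theorem normal_of_index_eq_prime [Finite G] (p : ℕ) [Fact p.Prime] (hG : IsPGroup p G)
    (M : Subgroup G) (hM : M.index = p) : M.Normal := by
  have hp : p.Prime := Fact.out
  obtain ⟨n, hn⟩ := (IsPGroup.iff_card).mp hG
  apply Subgroup.normal_of_index_eq_minFac_card
  rw [hM, hn]
  have hn0 : n ≠ 0 := by
    rintro rfl
    have h1 := Subgroup.index_dvd_card M
    rw [hM, hn, pow_zero] at h1
    exact hp.one_lt.ne' (Nat.dvd_one.mp h1)
  exact (Nat.Prime.pow_minFac hp hn0).symm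

/-- exact count of the index-`p` subgroups above `K` in a `p`-group -/
theorem card_maxOver [Finite G] (p : ℕ) [Fact p.Prime] (hG : IsPGroup p G) (K : Subgroup G) :
    ∃ c, (p - 1) * Nat.card (MaxOver p K) + 1 = p ^ c := by
  classical
  have hp : p.Prime := Fact.out
  have hfin := finite_hom_zmod (G := G) p
  obtain ⟨c, hc⟩ := card_homOver p K
  refine ⟨c, ?_⟩
  rw [← hc]
  have h1 := Nat.card_congr (Equiv.optionSubtypeNe (1 : homOver p K))
  rw [Finite.card_option] at h1
  rw [← h1]
  congr 1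
  let e : {f : homOver p K // f ≠ 1} ≃
      Σ M : MaxOver p K, {f : G →* Multiplicative (ZMod p) // f.ker = M.1} :=
    { toFun := fun f => ⟨⟨f.1.1.ker, index_ker_of_ne_one p f.1.1 (by
          intro h
          apply f.2
          apply Subtype.ext
          exact h), f.1.2⟩, ⟨f.1.1, rfl⟩⟩
      invFun := fun x => ⟨⟨x.2.1, by
          rw [mem_homOver, x.2.2]
          exact x.1.2.2⟩, by
          intro h
          have h2 : x.2.1 = 1 := congrArg Subtype.val h
          have h3 : x.2.1.ker = ⊤ := by rw [h2]; exact MonoidHom.ker_one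
          have h4 := x.1.2.1
          rw [← x.2.2, h3, Subgroup.index_top] at h4
          exact hp.one_lt.ne h4⟩
      left_inv := fun f => rfl
      right_inv := by
        rintro ⟨⟨M, hM⟩, ⟨f, hf⟩⟩
        have hM' : M = f.ker := hf.symm
        subst hM'
        rfl }
  rw [Nat.card_congr e]
  haveI : Fintype (MaxOver p K) := Fintype.ofFinite _
  rw [Nat.card_sigma]
  have h2 : ∀ M : MaxOver p K,
      Nat.card {f : G →* Multiplicative (ZMod p) // f.ker = M.1} = p - 1 := by
    intro M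
    haveI := normal_of_index_eq_prime p hG M.1 M.2.1
    exact card_hom_ker_eq p M.1 M.2.1
  rw [Finset.sum_congr rfl (fun M _ => h2 M), Finset.sum_const, Finset.card_univ,
    Nat.card_eq_fintype_card, smul_eq_mul, mul_comm]

/-- a proper subgroup of a `p`-group lies in a subgroup of index `p` -/
theorem exists_maxOver [Finite G] (p : ℕ) [Fact p.Prime] (hG : IsPGroup p G) (K : Subgroup G)
    (hK : K ≠ ⊤) : Nonempty (MaxOver p K) := by
  have hp : p.Prime := Fact.out
  obtain ⟨n, hn⟩ := (IsPGroup.iff_card).mp hG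
  obtain ⟨k, hk⟩ := (IsPGroup.iff_card).mp (hG.to_subgroup K)
  have hlt : k < n := by
    by_contra h
    push Not at h
    apply hK
    apply Subgroup.eq_top_of_card_eq
    apply le_antisymm (Subgroup.card_le_card_group K)
    rw [hn, hk]
    exact Nat.pow_le_pow_right hp.pos h
  obtain ⟨M, hM, hKM⟩ := Sylow.exists_subgroup_card_pow_prime_le p
    (show p ^ (n - 1) ∣ Nat.card G by rw [hn]; exact pow_dvd_pow p (Nat.sub_le n 1)) K hk
    (by omega)
  refine ⟨⟨M, ?_, hKM⟩⟩
  have h1 := Subgroup.card_mul_index M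
  rw [hM, hn] at h1
  have h2 : p ^ n = p ^ (n - 1) * p := by
    rw [← pow_succ]; congr 1; omega
  rw [h2] at h1
  exact Nat.eq_of_mul_eq_mul_left (pow_pos hp.pos _) h1

theorem sq_cast_zmod (p : ℕ) : ((p : ZMod (p ^ 2)) ^ 2) = 0 := by
  have h := ZMod.natCast_self (p ^ 2)
  push_cast at h
  exact h

/-- the count of index-`p` subgroups above a proper subgroup is `1`, or `≡ 1 + p (mod p²)`. -/
theorem card_maxOver_cases [Finite G] (p : ℕ) [Fact p.Prime] (hG : IsPGroup p G)
    (K : Subgroup G) (hK : K ≠ ⊤) :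
    Nat.card (MaxOver p K) = 1 ∨
      (2 ≤ Nat.card (MaxOver p K) ∧ (Nat.card (MaxOver p K) : ZMod (p ^ 2)) = 1 + p) := by
  have hp : p.Prime := Fact.out
  obtain ⟨c, hc⟩ := card_maxOver p hG K
  have hne := exists_maxOver p hG K hK
  have hpos : 0 < Nat.card (MaxOver p K) := Nat.card_pos
  set μ := Nat.card (MaxOver p K) with hμ
  have hp1 : 1 ≤ p := hp.pos
  rcases Nat.lt_or_ge μ 2 with h | h
  · left; omega
  · right
    refine ⟨h, ?_⟩
    have hc2 : 2 ≤ c := by
      by_contra hc'
      push Not at hc'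
      have h1 : p ^ c ≤ p := by
        calc p ^ c ≤ p ^ 1 := Nat.pow_le_pow_right hp.pos (by omega)
          _ = p := pow_one p
      have h2 : (p - 1) * 2 ≤ (p - 1) * μ := Nat.mul_le_mul_left _ h
      have h3 : 2 ≤ p := hp.two_le
      omega
    have hcast : ((p : ZMod (p ^ 2)) - 1) * (μ : ZMod (p ^ 2)) + 1 = 0 := by
      have h1 := congrArg (Nat.cast : ℕ → ZMod (p ^ 2)) hc
      push_cast [Nat.cast_sub hp1] at h1
      rw [h1]
      obtain ⟨d, rfl⟩ : ∃ d, c = 2 + d := ⟨c - 2, by omega⟩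
      rw [pow_add, sq_cast_zmod, zero_mul]
    have hsq := sq_cast_zmod p
    linear_combination (-((p : ZMod (p ^ 2)) + 1)) * hcast + (μ : ZMod (p ^ 2)) * hsq

theorem card_maxOver_modEq [Finite G] (p : ℕ) [Fact p.Prime] (hG : IsPGroup p G)
    (K : Subgroup G) (hK : K ≠ ⊤) : Nat.card (MaxOver p K) ≡ 1 [MOD p] := by
  have hp : p.Prime := Fact.out
  rcases card_maxOver_cases p hG K hK with h | ⟨_, h⟩
  · rw [h]
  · have h1 : ((1 + p : ℕ) : ZMod (p ^ 2)) = 1 + p := by push_cast; rfl
    rw [← h1, ZMod.natCast_eq_natCast_iff] at h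
    have h2 : Nat.card (MaxOver p K) ≡ 1 + p [MOD p] :=
      h.of_dvd (Dvd.intro_left p (by ring))
    exact h2.trans (by simp [Nat.ModEq])

/-- a noncyclic `p`-group has at least two subgroups of index `p` -/
theorem two_le_card_maxOver_bot [Finite G] (p : ℕ) [Fact p.Prime] (hG : IsPGroup p G)
    (hnc : ¬ IsCyclic G) : 2 ≤ Nat.card (MaxOver p (⊥ : Subgroup G)) := by
  have hbt : (⊥ : Subgroup G) ≠ ⊤ := by
    intro h
    apply hnc
    haveI : Subsingleton G := by
      rw [← Subgroup.subsingleton_iff]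
      exact subsingleton_of_bot_eq_top h
    exact isCyclic_of_subsingleton
  obtain ⟨M0⟩ := exists_maxOver p hG ⊥ hbt
  have hp : p.Prime := Fact.out
  have hM0 : M0.1 ≠ ⊤ := by
    intro h
    have := M0.2.1
    rw [h, Subgroup.index_top] at this
    exact hp.one_lt.ne this
  obtain ⟨x, hx⟩ : ∃ x, x ∉ M0.1 := by
    by_contra h
    push Not at h
    exact hM0 (eq_top_iff.mpr fun x _ => h x)
  have hz : Subgroup.zpowers x ≠ ⊤ := by
    intro h
    apply hnc
    exact isCyclic_iff_exists_zpowers_eq_top.mpr ⟨x, h⟩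
  obtain ⟨M1⟩ := exists_maxOver p hG _ hz
  have hne : (⟨M1.1, M1.2.1, bot_le⟩ : MaxOver p (⊥ : Subgroup G)) ≠ M0 := by
    intro h
    apply hx
    rw [← h]
    exact M1.2.2 (Subgroup.mem_zpowers x)
  haveI : Nontrivial (MaxOver p (⊥ : Subgroup G)) := ⟨⟨_, _, hne⟩⟩
  exact Finite.one_lt_card_iff_nontrivial.mpr this

end MaxCount

section CyclicMax

variable {G : Type*} [Group G]

theorem conj_pow_of_conj {g b : G} {r : ℕ} (h : g * b * g⁻¹ = b ^ r) (k : ℕ) :
    g ^ k * b * (g ^ k)⁻¹ = b ^ (r ^ k) := by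
  induction k with
  | zero => simp
  | succ k ih =>
    have h1 : g ^ (k + 1) * b * (g ^ (k + 1))⁻¹ = g * (g ^ k * b * (g ^ k)⁻¹) * g⁻¹ := by
      rw [pow_succ']; group
    have h2 : g * b ^ (r ^ k) * g⁻¹ = (g * b * g⁻¹) ^ (r ^ k) := by
      rw [conj_pow]
    rw [h1, ih, h2, h, ← pow_mul, ← pow_succ']

theorem twisted_pow {g b : G} {r : ℕ} (h : g * b * g⁻¹ = b ^ r) (k : ℕ) :
    (b * g) ^ k = b ^ (∑ i ∈ Finset.range k, r ^ i) * g ^ k := by
  induction k with
  | zero => simp
  | succ k ih =>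
    rw [pow_succ, ih, Finset.sum_range_succ, pow_add, pow_succ]
    have h1 := conj_pow_of_conj h k
    have h2 : g ^ k * b = b ^ (r ^ k) * g ^ k := by
      rw [← h1]; group
    calc b ^ (∑ i ∈ Finset.range k, r ^ i) * g ^ k * (b * g)
        = b ^ (∑ i ∈ Finset.range k, r ^ i) * (g ^ k * b) * g := by group
      _ = b ^ (∑ i ∈ Finset.range k, r ^ i) * (b ^ (r ^ k) * g ^ k) * g := by rw [h2]
      _ = _ := by group

theorem geom_sum_modEq (p r : ℕ) (hp : p.Prime) (hp2 : p ≠ 2) (hr : r ≡ 1 [MOD p]) :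
    ∑ i ∈ Finset.range p, r ^ i ≡ p [MOD p ^ 2] := by
  obtain ⟨m, hm⟩ : ∃ m, p = 2 * m + 1 := by
    rcases hp.eq_two_or_odd' with h | h
    · exact absurd h hp2
    · obtain ⟨m, hm⟩ := h
      exact ⟨m, hm⟩
  have h3 : 3 ≤ p := by
    have := hp.two_le
    omega
  have hr1 : r % p = 1 := by
    have := hr
    unfold Nat.ModEq at this
    rw [this]
    exact Nat.mod_eq_of_lt (by omega)
  obtain ⟨w, hw⟩ : ∃ w, r = 1 + p * w := ⟨r / p, by
    have := Nat.div_add_mod r p
    omega⟩
  rw [← ZMod.natCast_eq_natCast_iff]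
  have hsq := sq_cast_zmod p
  have hpow : ∀ i : ℕ, ((r : ZMod (p ^ 2))) ^ i = 1 + i * p * w := by
    intro i
    induction i with
    | zero => simp
    | succ i ih =>
      rw [pow_succ (r : ZMod (p ^ 2)) i, ih, hw]
      push_cast
      linear_combination ((i : ZMod (p ^ 2)) * w * w) * hsq
  push_cast
  rw [Finset.sum_congr rfl (fun i _ => hpow i), Finset.sum_add_distrib]
  simp only [Finset.sum_const, Finset.card_range, nsmul_eq_mul, mul_one]
  have hsum : ∑ i ∈ Finset.range p, ((i : ZMod (p ^ 2)) * p * w) =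
      ((∑ i ∈ Finset.range p, i : ℕ) : ZMod (p ^ 2)) * p * w := by
    push_cast
    rw [Finset.sum_mul, Finset.sum_mul]
  have hgauss : ∑ i ∈ Finset.range p, i = p * m := by
    have := Finset.sum_range_id_mul_two p
    have h2 : p * (p - 1) = p * m * 2 := by
      have : p - 1 = 2 * m := by omega
      rw [this]; ring
    omega
  rw [hsum, hgauss]
  push_cast
  linear_combination ((m : ZMod (p ^ 2)) * w) * hsq

/-- in a group with a normal subgroup of prime index, every element is a power of a fixed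
outside element times an element of the subgroup -/
theorem exists_pow_inv_mul_mem (p : ℕ) [Fact p.Prime] (M : Subgroup G) [M.Normal]
    (hM : M.index = p) (g0 : G) (hg0 : g0 ∉ M) (x : G) : ∃ k : ℕ, (g0 ^ k)⁻¹ * x ∈ M := by
  have hcardQ : Nat.card (G ⧸ M) = p := hM
  have hg0' : (g0 : G ⧸ M) ≠ 1 := by
    intro h
    exact hg0 ((QuotientGroup.eq_one_iff g0).mp h)
  haveI : Finite (G ⧸ M) := Nat.finite_of_card_ne_zero (by
    rw [hcardQ]; exact (Fact.out : p.Prime).ne_zero)
  have h1 : ((x : G ⧸ M)) ∈ Subgroup.zpowers (g0 : G ⧸ M) := by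
    rw [zpowers_eq_top_of_prime_card hcardQ hg0']
    exact Subgroup.mem_top _
  rw [← mem_powers_iff_mem_zpowers] at h1
  obtain ⟨k, hk⟩ := h1
  refine ⟨k, ?_⟩
  apply QuotientGroup.eq.mp
  simpa using hk

theorem pow_prime_mem_of_index (p : ℕ) [Fact p.Prime] (M : Subgroup G) [M.Normal]
    (hM : M.index = p) (g : G) : g ^ p ∈ M := by
  have hcardQ : Nat.card (G ⧸ M) = p := hM
  haveI : Finite (G ⧸ M) := Nat.finite_of_card_ne_zero (by
    rw [hcardQ]; exact (Fact.out : p.Prime).ne_zero)
  have h := pow_card_eq_one' (G := G ⧸ M) (x := (g : G ⧸ M))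
  rw [hcardQ] at h
  apply (QuotientGroup.eq_one_iff _).mp
  simpa using h

/-- a noncyclic `p`-group has no element of order `p ^ n = |G|` -/
theorem pow_pred_eq_one_of_not_cyclic [Finite G] (p : ℕ) [Fact p.Prime] (n : ℕ)
    (hG : Nat.card G = p ^ n) (hn : 1 ≤ n) (hnc : ¬ IsCyclic G) (g : G) :
    g ^ (p ^ (n - 1)) = 1 := by
  have hp : p.Prime := Fact.out
  have h1 : orderOf g ∣ p ^ n := hG ▸ orderOf_dvd_natCard g
  obtain ⟨j, hj, hoj⟩ := (Nat.dvd_prime_pow hp).mp h1
  have hjn : j ≠ n := by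
    rintro rfl
    apply hnc
    apply isCyclic_iff_exists_zpowers_eq_top.mpr
    refine ⟨g, ?_⟩
    apply Subgroup.eq_top_of_card_eq
    rw [Nat.card_zpowers, hoj, hG]
  apply orderOf_dvd_iff_pow_eq_one.mp
  rw [hoj]
  exact pow_dvd_pow p (by omega)

/-- **Key lemma**: in a noncyclic group of order `p ^ n` (`p` odd, `n ≥ 3`) with a cyclic
subgroup of index `p`, the elements of order less than `p ^ (n - 1)` form a subgroup of
index `p`. -/
theorem exists_index_p_pow_kernel [Finite G] (p : ℕ) [Fact p.Prime] (hp2 : p ≠ 2) (n : ℕ)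
    (hG : Nat.card G = p ^ n) (hn : 3 ≤ n) (hnc : ¬ IsCyclic G)
    (A : Subgroup G) (hA : A.index = p) (hAc : IsCyclic A) :
    ∃ M0 : Subgroup G, M0.index = p ∧ ∀ g : G, g ∈ M0 ↔ g ^ (p ^ (n - 2)) = 1 := by
  classical
  have hp : p.Prime := Fact.out
  have hPG : IsPGroup p G := IsPGroup.of_card hG
  haveI hAn : A.Normal := normal_of_index_eq_prime p hPG A hA
  have hcardA : Nat.card A = p ^ (n - 1) := by
    have h1 := Subgroup.card_mul_index A
    rw [hA, hG] at h1
    have h2 : p ^ n = p ^ (n - 1) * p := by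
      rw [← pow_succ]; congr 1; omega
    rw [h2] at h1
    exact Nat.eq_of_mul_eq_mul_right hp.pos h1
  obtain ⟨a', ha'⟩ := hAc.exists_generator
  have hoa' : orderOf a' = p ^ (n - 1) := by
    rw [orderOf_eq_card_of_forall_mem_zpowers ha', hcardA]
  set a : G := a'.1 with ha
  have haA : a ∈ A := a'.2
  have hoa : orderOf a = p ^ (n - 1) := by rw [ha, Subgroup.orderOf_coe, hoa']
  have hApow : ∀ b ∈ A, ∃ j : ℕ, b = a ^ j := by
    intro b hb
    have h1 := ha' ⟨b, hb⟩
    rw [← mem_powers_iff_mem_zpowers] at h1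
    obtain ⟨j, hj⟩ := h1
    refine ⟨j, ?_⟩
    have := congrArg Subtype.val hj
    simpa using this.symm
  have hAcomm : ∀ b ∈ A, ∀ c ∈ A, b * c = c * b := by
    intro b hb c hc
    obtain ⟨j, rfl⟩ := hApow b hb
    obtain ⟨k, rfl⟩ := hApow c hc
    rw [← pow_add, ← pow_add, add_comm]
  -- an element outside A
  have hAne : A ≠ ⊤ := by
    intro h
    rw [h, Subgroup.index_top] at hA
    exact hp.one_lt.ne hA
  obtain ⟨g0, hg0⟩ : ∃ g0, g0 ∉ A := by
    by_contra h
    push Not at h
    exact hAne (eq_top_iff.mpr fun x _ => h x)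
  -- the conjugation exponent
  obtain ⟨r, hr⟩ : ∃ r : ℕ, g0 * a * g0⁻¹ = a ^ r := hApow _ (hAn.conj_mem a haA g0)
  have hg0p : g0 ^ p ∈ A := pow_prime_mem_of_index p A hA g0
  have hr1 : r ≡ 1 [MOD p] := by
    have h1 := conj_pow_of_conj hr p
    have h2 : g0 ^ p * a * (g0 ^ p)⁻¹ = a := by
      rw [hAcomm _ hg0p _ haA]; group
    rw [h2] at h1
    have h3 : a ^ (r ^ p) = a ^ 1 := by rw [pow_one]; exact h1.symm
    have h4 : r ^ p ≡ 1 [MOD p ^ (n - 1)] := by
      have := pow_eq_pow_iff_modEq.mp h3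
      rw [hoa] at this
      exact this
    have h5 : r ^ p ≡ 1 [MOD p] := h4.of_dvd (dvd_pow_self p (by omega))
    have h6 : r ^ p ≡ r [MOD p] := by
      rw [← ZMod.natCast_eq_natCast_iff]
      push_cast
      exact ZMod.pow_card _
    exact h6.symm.trans h5
  set S := ∑ i ∈ Finset.range p, r ^ i with hS
  have hSmod : S ≡ p [MOD p ^ 2] := geom_sum_modEq p r hp hp2 hr1
  have hpS : p ∣ S := by
    have h1 : S ≡ p [MOD p] := hSmod.of_dvd (dvd_pow_self p (by norm_num))
    exact (Nat.modEq_zero_iff_dvd.mp (h1.trans (by simp [Nat.ModEq])))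
  obtain ⟨u, hu⟩ := hpS
  have hu1 : u ≡ 1 [MOD p] := by
    have h1 : p * u ≡ p * 1 [MOD p * p] := by
      rw [← hu, mul_one, ← sq]; exact hSmod
    exact Nat.ModEq.mul_left_cancel' hp.ne_zero h1
  have hucop : Nat.Coprime p u := by
    rw [Nat.Prime.coprime_iff_not_dvd hp]
    intro h
    have h2 : u ≡ 0 [MOD p] := Nat.modEq_zero_iff_dvd.mpr h
    have h3 : (1 : ℕ) ≡ 0 [MOD p] := hu1.symm.trans h2
    have := Nat.modEq_zero_iff_dvd.mp h3
    exact hp.one_lt.ne' (Nat.dvd_one.mp this)
  -- transfer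
  letI : CommGroup A := IsCyclic.commGroup
  let V : G →* A := MonoidHom.transfer (MonoidHom.id A)
  have hV1 : ∀ g : G, g ∉ A → ((V g : A) : G) = g ^ p := by
    intro g hg
    have key : ∀ (k : ℕ) (g₀ : G), g₀⁻¹ * g ^ k * g₀ ∈ A → g₀⁻¹ * g ^ k * g₀ = g ^ k := by
      intro k g₀ hmem
      have hgk : g ^ k ∈ A := by
        have := hAn.conj_mem _ hmem g₀
        have h2 : g₀ * (g₀⁻¹ * g ^ k * g₀) * g₀⁻¹ = g ^ k := by group
        rwa [h2] at this
      obtain ⟨i, hi⟩ := exists_pow_inv_mul_mem p A hA g hg g₀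
      set c := (g ^ i)⁻¹ * g₀ with hc
      have hg₀ : g₀ = g ^ i * c := by rw [hc]; group
      have hcomm : g ^ k * c = c * g ^ k := hAcomm _ hgk _ hi
      have hcomm2 : g ^ k * g ^ i = g ^ i * g ^ k := by
        rw [← pow_add, ← pow_add, add_comm]
      rw [hg₀]
      calc (g ^ i * c)⁻¹ * g ^ k * (g ^ i * c)
          = c⁻¹ * (g ^ i)⁻¹ * (g ^ k * g ^ i) * c := by group
        _ = c⁻¹ * (g ^ i)⁻¹ * (g ^ i * g ^ k) * c := by rw [hcomm2]
        _ = c⁻¹ * (g ^ k * c) := by group
        _ = c⁻¹ * (c * g ^ k) := by rw [hcomm]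
        _ = g ^ k := by group
    have h1 := MonoidHom.transfer_eq_pow (MonoidHom.id A) g key
    have h2 : ((V g : A) : G) = g ^ A.index := congrArg Subtype.val h1
    rw [hA] at h2
    exact h2
  have hVa : ((V a : A) : G) = a ^ S := by
    have hag : a * g0 ∉ A := by
      intro h
      apply hg0
      have := A.mul_mem (A.inv_mem haA) h
      rwa [inv_mul_cancel_left] at this
    have h1 : V a = V (a * g0) * (V g0)⁻¹ := by rw [map_mul]; group
    have h2 := congrArg Subtype.val h1
    rw [Subgroup.coe_mul, Subgroup.coe_inv, hV1 _ hag, hV1 _ hg0, twisted_pow hr p] at h2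
    rw [h2, mul_inv_cancel_right]
  have hVA : ∀ b ∈ A, ((V b : A) : G) = b ^ S := by
    intro b hb
    obtain ⟨j, rfl⟩ := hApow b hb
    rw [map_pow, Subgroup.coe_pow, hVa, ← pow_mul, ← pow_mul, mul_comm]
  let κ : G →* A := (powMonoidHom (p ^ (n - 3))).comp V
  have hκ : ∀ g, ((κ g : A) : G) = ((V g : A) : G) ^ (p ^ (n - 3)) := by
    intro g
    show (((V g) ^ (p ^ (n - 3)) : A) : G) = _
    rw [Subgroup.coe_pow]
  have hpn : p * p ^ (n - 3) = p ^ (n - 2) := by
    rw [← pow_succ']; congr 1; omega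
  have hmem : ∀ g : G, g ∈ κ.ker ↔ g ^ (p ^ (n - 2)) = 1 := by
    intro g
    rw [MonoidHom.mem_ker, ← OneMemClass.coe_eq_one, hκ]
    by_cases hg : g ∈ A
    · rw [hVA g hg, ← pow_mul, hu]
      have h1 : orderOf g ∣ p ^ n := hG ▸ orderOf_dvd_natCard g
      obtain ⟨j, hj, hoj⟩ := (Nat.dvd_prime_pow hp).mp h1
      rw [← orderOf_dvd_iff_pow_eq_one, ← orderOf_dvd_iff_pow_eq_one, hoj]
      have h2 : p * u * p ^ (n - 3) = p ^ (n - 2) * u := by rw [← hpn]; ring
      rw [h2]
      exact Nat.Coprime.dvd_mul_right (Nat.Coprime.pow_left j hucop)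
    · rw [hV1 g hg, ← pow_mul, hpn]
  have hanot : a ∉ κ.ker := by
    rw [hmem, ← orderOf_dvd_iff_pow_eq_one, hoa]
    intro h
    have := Nat.pow_dvd_pow_iff_le_right hp.one_lt |>.mp h
    omega
  refine ⟨κ.ker, ?_, hmem⟩
  rw [Subgroup.index_ker]
  -- the range is cyclic of exponent p
  haveI : IsCyclic κ.range := Subgroup.isCyclic _
  obtain ⟨y, hy⟩ := IsCyclic.exists_generator (α := κ.range)
  have hoy : orderOf y = Nat.card κ.range := orderOf_eq_card_of_forall_mem_zpowers hy
  have hyp : y ^ p = 1 := by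
    obtain ⟨g, hg⟩ := y.2
    apply Subtype.ext
    rw [Subgroup.coe_pow, ← hg]
    apply Subtype.ext
    rw [Subgroup.coe_pow, hκ, ← pow_mul]
    show ((V g : A) : G) ^ (p ^ (n - 3) * p) = 1
    have hpn' : p ^ (n - 3) * p = p ^ (n - 2) := by rw [mul_comm]; exact hpn
    rw [hpn']
    by_cases hgA : g ∈ A
    · rw [hVA g hgA, ← pow_mul, hu]
      have h1 : orderOf g ∣ p ^ (n - 1) := by
        have := Subgroup.orderOf_dvd_natCard A hgA
        rwa [hcardA] at this
      apply orderOf_dvd_iff_pow_eq_one.mp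
      apply h1.trans
      have h2 : p * u * p ^ (n - 2) = p ^ (n - 1) * u := by
        have : p ^ (n - 1) = p * p ^ (n - 2) := by
          rw [← pow_succ']; congr 1; omega
        rw [this]; ring
      rw [h2]
      exact Dvd.intro _ rfl
    · rw [hV1 g hgA, ← pow_mul]
      have h2 : p * p ^ (n - 2) = p ^ (n - 1) := by
        rw [← pow_succ']; congr 1; omega
      rw [h2]
      exact pow_pred_eq_one_of_not_cyclic p n hG (by omega) hnc g
  have hdvd : Nat.card κ.range ∣ p := by
    rw [← hoy]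
    exact orderOf_dvd_of_pow_eq_one hyp
  rcases (Nat.dvd_prime hp).mp hdvd with h | h
  · exfalso
    apply hanot
    rw [MonoidHom.mem_ker]
    have h1 : κ a ∈ κ.range := ⟨a, rfl⟩
    haveI : Subsingleton κ.range := (Nat.card_eq_one_iff_unique.mp h).1
    have h2 : (⟨κ a, h1⟩ : κ.range) = 1 := Subsingleton.elim _ _
    exact congrArg Subtype.val h2
  · exact h

theorem card_of_index_eq_prime [Finite G] (p : ℕ) [Fact p.Prime] (n : ℕ)
    (hG : Nat.card G = p ^ n) (M : Subgroup G) (hM : M.index = p) :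
    Nat.card M = p ^ (n - 1) ∧ 1 ≤ n := by
  have hp : p.Prime := Fact.out
  have h1 := Subgroup.card_mul_index M
  rw [hM, hG] at h1
  have hn : 1 ≤ n := by
    rcases Nat.eq_zero_or_pos n with h | h
    · subst h
      rw [pow_zero] at h1
      have := Nat.eq_one_of_mul_eq_one_left h1
      exact absurd this hp.one_lt.ne'
    · exact h
  refine ⟨?_, hn⟩
  have h2 : p ^ n = p ^ (n - 1) * p := by
    rw [← pow_succ]; congr 1; omega
  rw [h2] at h1
  exact Nat.eq_of_mul_eq_mul_right hp.pos h1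

/-- the number of cyclic subgroups of index `p` in a noncyclic group of order `p ^ n`,
`p` odd, `n ≥ 3`, is divisible by `p` -/
theorem card_cyclic_max_dvd [Finite G] (p : ℕ) [Fact p.Prime] (hp2 : p ≠ 2) (n : ℕ)
    (hG : Nat.card G = p ^ n) (hn : 3 ≤ n) (hnc : ¬ IsCyclic G) :
    p ∣ Nat.card {M : Subgroup G // M.index = p ∧ IsCyclic M} := by
  classical
  have hp : p.Prime := Fact.out
  have hPG : IsPGroup p G := IsPGroup.of_card hG
  by_cases hex : ∃ A : Subgroup G, A.index = p ∧ IsCyclic A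
  · obtain ⟨A, hA, hAc⟩ := hex
    obtain ⟨M0, hM0, hmem⟩ := exists_index_p_pow_kernel p hp2 n hG hn hnc A hA hAc
    have hchar : ∀ M : Subgroup G, M.index = p → (IsCyclic M ↔ M ≠ M0) := by
      intro M hM
      have hcM := (card_of_index_eq_prime p n hG M hM).1
      constructor
      · intro hc hMM0
        obtain ⟨g, hg⟩ := hc.exists_generator
        have hog : orderOf g = p ^ (n - 1) := by
          rw [orderOf_eq_card_of_forall_mem_zpowers hg, hcM]
        have h1 : (g : G) ∈ M0 := hMM0 ▸ g.2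
        rw [hmem, ← orderOf_dvd_iff_pow_eq_one, Subgroup.orderOf_coe, hog] at h1
        have := Nat.pow_dvd_pow_iff_le_right hp.one_lt |>.mp h1
        omega
      · intro hne
        obtain ⟨g, hgM, hgM0⟩ : ∃ g, g ∈ M ∧ g ∉ M0 := by
          by_contra h
          push Not at h
          apply hne
          apply Subgroup.eq_of_le_of_card_ge h
          rw [hcM, (card_of_index_eq_prime p n hG M0 hM0).1]
        have h1 : orderOf g ∣ p ^ (n - 1) := by
          have := Subgroup.orderOf_dvd_natCard M hgM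
          rwa [hcM] at this
        obtain ⟨j, hj, hoj⟩ := (Nat.dvd_prime_pow hp).mp h1
        have hj2 : j = n - 1 := by
          by_contra hj'
          apply hgM0
          rw [hmem, ← orderOf_dvd_iff_pow_eq_one, hoj]
          exact pow_dvd_pow p (by omega)
        have hz : Subgroup.zpowers g = M := by
          apply Subgroup.eq_of_le_of_card_ge (Subgroup.zpowers_le.mpr hgM)
          rw [Nat.card_zpowers, hoj, hj2, hcM]
        have h2 : IsCyclic (Subgroup.zpowers g) := Subgroup.isCyclic_zpowers g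
        rwa [hz] at h2
    let M0' : MaxOver p (⊥ : Subgroup G) := ⟨M0, hM0, bot_le⟩
    let e : {M : Subgroup G // M.index = p ∧ IsCyclic M} ≃
        {M : MaxOver p (⊥ : Subgroup G) // M ≠ M0'} :=
      { toFun := fun M => ⟨⟨M.1, M.2.1, bot_le⟩, by
          intro h
          exact (hchar M.1 M.2.1).mp M.2.2 (congrArg Subtype.val h)⟩
        invFun := fun M => ⟨M.1.1, M.1.2.1, (hchar M.1.1 M.1.2.1).mpr (by
          intro h
          apply M.2
          apply Subtype.ext
          exact h)⟩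
        left_inv := fun M => rfl
        right_inv := fun M => rfl }
    rw [Nat.card_congr e]
    have h3 := Nat.card_congr (Equiv.optionSubtypeNe M0')
    rw [Finite.card_option] at h3
    have hbt : (⊥ : Subgroup G) ≠ ⊤ := by
      intro h
      apply hnc
      haveI : Subsingleton G := by
        rw [← Subgroup.subsingleton_iff]
        exact subsingleton_of_bot_eq_top h
      exact isCyclic_of_subsingleton
    have h4 := card_maxOver_modEq p hPG ⊥ hbt
    rw [← h3] at h4
    have h5 : Nat.card {M : MaxOver p (⊥ : Subgroup G) // M ≠ M0'} ≡ 0 [MOD p] :=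
      Nat.ModEq.add_right_cancel' 1 (by simpa using h4)
    exact Nat.modEq_zero_iff_dvd.mp h5
  · haveI : IsEmpty {M : Subgroup G // M.index = p ∧ IsCyclic M} :=
      ⟨fun M => hex ⟨M.1, M.2⟩⟩
    rw [Nat.card_of_isEmpty]
    exact dvd_zero p

end CyclicMax

section CycSubCount

/-- two subgroups of the same order in a finite cyclic group are equal -/
theorem eq_of_card_eq_of_isCyclic {K : Type*} [Group K] [Finite K] [IsCyclic K]
    (C1 C2 : Subgroup K) (h : Nat.card C1 = Nat.card C2) : C1 = C2 := by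
  classical
  haveI := Fintype.ofFinite K
  set d := Nat.card C1 with hd
  have hd0 : 0 < d := Nat.card_pos
  have hT := IsCyclic.card_pow_eq_one_le (α := K) hd0
  have key : ∀ C : Subgroup K, Nat.card C = d → ∀ x, x ∈ C ↔ x ^ d = 1 := by
    intro C hC x
    constructor
    · intro hx
      have h1 := pow_card_eq_one' (G := C) (x := ⟨x, hx⟩)
      rw [hC] at h1
      have h2 := congrArg Subtype.val h1
      simpa using h2
    · intro hx
      have hsub : (Finset.univ.filter (fun y : K => y ∈ C)) ⊆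
          (Finset.univ.filter (fun a : K => a ^ d = 1)) := by
        intro y hy
        rw [Finset.mem_filter] at hy ⊢
        refine ⟨Finset.mem_univ _, ?_⟩
        have h1 := pow_card_eq_one' (G := C) (x := ⟨y, hy.2⟩)
        rw [hC] at h1
        have h2 := congrArg Subtype.val h1
        simpa using h2
      have hcard : (Finset.univ.filter (fun y : K => y ∈ C)).card = d := by
        rw [← hC, Nat.card_eq_fintype_card, Fintype.card_subtype]
      have heq := Finset.eq_of_subset_of_card_le hsub (by rw [hcard]; exact hT)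
      have h3 : x ∈ Finset.univ.filter (fun a : K => a ^ d = 1) := by
        rw [Finset.mem_filter]; exact ⟨Finset.mem_univ _, hx⟩
      rw [← heq, Finset.mem_filter] at h3
      exact h3.2
  ext x
  rw [key C1 rfl, key C2 h.symm]

/-- double counting -/
theorem sum_card_comm {α β : Type*} [Fintype α] [Fintype β] (R : α → β → Prop) :
    ∑ a, Nat.card {b // R a b} = ∑ b, Nat.card {a // R a b} := by
  rw [← Nat.card_sigma, ← Nat.card_sigma]
  exact Nat.card_congr ⟨fun x => ⟨x.2.1, x.1, x.2.2⟩, fun x => ⟨x.2.1, x.1, x.2.2⟩,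
    fun _ => rfl, fun _ => rfl⟩

variable {G : Type*} [Group G]

/-- subgroups of a subgroup `M` with a property, as subgroups of `G` below `M` -/
def subgroupEquivLe (M : Subgroup G) (Q : Subgroup G → Prop) :
    {C : Subgroup M // Q (C.map M.subtype)} ≃ {D : Subgroup G // D ≤ M ∧ Q D} where
  toFun C := ⟨C.1.map M.subtype, Subgroup.map_subtype_le C.1, C.2⟩
  invFun D := ⟨D.1.subgroupOf M, by
    rw [Subgroup.map_subgroupOf_eq_of_le D.2.1]; exact D.2.2⟩
  left_inv C := by
    apply Subtype.ext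
    exact Subgroup.comap_map_eq_self_of_injective Subtype.coe_injective C.1
  right_inv D := by
    apply Subtype.ext
    exact Subgroup.map_subgroupOf_eq_of_le D.2.1

/-- cyclic subgroups of order `k` -/
abbrev CycSub (G : Type*) [Group G] (k : ℕ) := {C : Subgroup G // IsCyclic C ∧ Nat.card C = k}

/-- subgroups of order `k` -/
abbrev OrdSub (G : Type*) [Group G] (k : ℕ) := {C : Subgroup G // Nat.card C = k}

theorem card_map_subtype (M : Subgroup G) (C : Subgroup M) :
    Nat.card (C.map M.subtype) = Nat.card C :=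
  Subgroup.card_map_of_injective Subtype.coe_injective

theorem isCyclic_map_subtype (M : Subgroup G) (C : Subgroup M) :
    IsCyclic (C.map M.subtype) ↔ IsCyclic C :=
  (MulEquiv.isCyclic (Subgroup.equivMapOfInjective C M.subtype Subtype.coe_injective)).symm

/-- cyclic subgroups of order `k` of a subgroup -/
def cycSubEquiv (M : Subgroup G) (k : ℕ) :
    CycSub M k ≃ {C : CycSub G k // C.1 ≤ M} :=
  (Equiv.subtypeEquivRight (fun C => by
      rw [isCyclic_map_subtype, card_map_subtype])).trans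
    ((subgroupEquivLe M (fun D => IsCyclic D ∧ Nat.card D = k)).trans
      ⟨fun D => ⟨⟨D.1, D.2.2⟩, D.2.1⟩, fun D => ⟨D.1.1, D.2, D.1.2⟩, fun _ => rfl, fun _ => rfl⟩)

/-- subgroups of order `k` of a subgroup -/
def ordSubEquiv (M : Subgroup G) (k : ℕ) :
    OrdSub M k ≃ {C : OrdSub G k // C.1 ≤ M} :=
  (Equiv.subtypeEquivRight (fun C => by
      rw [card_map_subtype])).trans
    ((subgroupEquivLe M (fun D => Nat.card D = k)).trans
      ⟨fun D => ⟨⟨D.1, D.2.2⟩, D.2.1⟩, fun D => ⟨D.1.1, D.2, D.1.2⟩, fun _ => rfl, fun _ => rfl⟩)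

theorem sum_modEq_of_forall {ι : Type*} (s : Finset ι) (f g : ι → ℕ) (m : ℕ)
    (h : ∀ i ∈ s, f i ≡ g i [MOD m]) : ∑ i ∈ s, f i ≡ ∑ i ∈ s, g i [MOD m] := by
  rw [← ZMod.natCast_eq_natCast_iff]
  push_cast
  exact Finset.sum_congr rfl (fun i hi => (ZMod.natCast_eq_natCast_iff _ _ _).mpr (h i hi))

theorem card_ordSub_of_isCyclic {K : Type*} [Group K] [Finite K] [IsCyclic K] (p : ℕ)
    [Fact p.Prime] (k : ℕ) (hdvd : p ^ k ∣ Nat.card K) : Nat.card (OrdSub K (p ^ k)) = 1 := by
  rw [Nat.card_eq_one_iff_unique]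
  constructor
  · constructor
    intro C1 C2
    apply Subtype.ext
    exact eq_of_card_eq_of_isCyclic C1.1 C2.1 (C1.2.trans C2.2.symm)
  · obtain ⟨C, hC⟩ := Sylow.exists_subgroup_card_pow_prime p hdvd
    exact ⟨⟨C, hC⟩⟩

theorem card_cycSub_of_isCyclic {K : Type*} [Group K] [Finite K] [IsCyclic K] (p : ℕ)
    [Fact p.Prime] (k : ℕ) (hdvd : p ^ k ∣ Nat.card K) : Nat.card (CycSub K (p ^ k)) = 1 := by
  rw [Nat.card_eq_one_iff_unique]
  constructor
  · constructor
    intro C1 C2
    apply Subtype.ext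
    exact eq_of_card_eq_of_isCyclic C1.1 C2.1 (C1.2.2.trans C2.2.2.symm)
  · obtain ⟨C, hC⟩ := Sylow.exists_subgroup_card_pow_prime p hdvd
    exact ⟨⟨C, Subgroup.isCyclic C, hC⟩⟩

theorem card_filter_cyclic_max [Finite G] (p : ℕ) [Fintype (MaxOver p (⊥ : Subgroup G))]
    [DecidablePred fun M : MaxOver p (⊥ : Subgroup G) => IsCyclic M.1] :
    (Finset.univ.filter (fun M : MaxOver p (⊥ : Subgroup G) => IsCyclic M.1)).card =
      Nat.card {M : Subgroup G // M.index = p ∧ IsCyclic M} := by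
  rw [← Fintype.card_subtype, ← Nat.card_eq_fintype_card]
  exact Nat.card_congr ⟨fun M => ⟨M.1.1, M.1.2.1, M.2⟩, fun M => ⟨⟨M.1, M.2.1, bot_le⟩, M.2.2⟩,
    fun _ => rfl, fun _ => rfl⟩

universe u

/-- **Miller**: in a noncyclic `p`-group, `p` odd, the number of cyclic subgroups of order
`p ^ s`, `s ≥ 2`, is divisible by `p`. -/
theorem card_cycSub_dvd (p : ℕ) [Fact p.Prime] (hp2 : p ≠ 2) (s : ℕ) (hs : 2 ≤ s) :
    ∀ (n : ℕ) (G : Type u) [Group G] [Finite G], Nat.card G = p ^ n → ¬ IsCyclic G →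
      p ∣ Nat.card (CycSub G (p ^ s)) := by
  intro n
  induction n using Nat.strong_induction_on with
  | _ n ih =>
  intro G _ _ hG hnc
  classical
  have hp : p.Prime := Fact.out
  have hPG : IsPGroup p G := IsPGroup.of_card hG
  by_cases hsn : s < n
  · haveI : Fintype (CycSub G (p ^ s)) := Fintype.ofFinite _
    haveI : Fintype (MaxOver p (⊥ : Subgroup G)) := Fintype.ofFinite _
    have hdc := sum_card_comm
      (fun (C : CycSub G (p ^ s)) (M : MaxOver p (⊥ : Subgroup G)) => C.1 ≤ M.1)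
    have hL : ∀ C : CycSub G (p ^ s),
        Nat.card {M : MaxOver p (⊥ : Subgroup G) // C.1 ≤ M.1} ≡ 1 [MOD p] := by
      intro C
      have hCt : C.1 ≠ ⊤ := by
        intro h
        apply hnc
        have h1 : IsCyclic (⊤ : Subgroup G) := h ▸ C.2.1
        exact (MulEquiv.isCyclic Subgroup.topEquiv).mp h1
      have e : {M : MaxOver p (⊥ : Subgroup G) // C.1 ≤ M.1} ≃ MaxOver p C.1 :=
        ⟨fun M => ⟨M.1.1, M.1.2.1, M.2⟩, fun M => ⟨⟨M.1, M.2.1, bot_le⟩, M.2.2⟩,
          fun _ => rfl, fun _ => rfl⟩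
      rw [Nat.card_congr e]
      exact card_maxOver_modEq p hPG C.1 hCt
    have hR : ∀ M : MaxOver p (⊥ : Subgroup G),
        Nat.card {C : CycSub G (p ^ s) // C.1 ≤ M.1} ≡
          (if IsCyclic M.1 then 1 else 0) [MOD p] := by
      intro M
      rw [← Nat.card_congr (cycSubEquiv M.1 (p ^ s))]
      have hcM := (card_of_index_eq_prime p n hG M.1 M.2.1).1
      by_cases hc : IsCyclic M.1
      · rw [if_pos hc]
        haveI := hc
        rw [card_cycSub_of_isCyclic p s (by rw [hcM]; exact pow_dvd_pow p (by omega))]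
      · rw [if_neg hc]
        exact Nat.modEq_zero_iff_dvd.mpr (ih (n - 1) (by omega) M.1 hcM hc)
    have h1 : Nat.card (CycSub G (p ^ s)) ≡
        ∑ C : CycSub G (p ^ s), Nat.card {M : MaxOver p (⊥ : Subgroup G) // C.1 ≤ M.1}
          [MOD p] := by
      have h2 : Nat.card (CycSub G (p ^ s)) = ∑ _C : CycSub G (p ^ s), 1 := by
        rw [Finset.sum_const, Finset.card_univ, Nat.card_eq_fintype_card, smul_eq_mul, mul_one]
      rw [h2]
      exact sum_modEq_of_forall _ _ _ _ (fun C _ => (hL C).symm)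
    have h3 : ∑ M : MaxOver p (⊥ : Subgroup G), Nat.card {C : CycSub G (p ^ s) // C.1 ≤ M.1} ≡
        ∑ M : MaxOver p (⊥ : Subgroup G), (if IsCyclic M.1 then 1 else 0) [MOD p] :=
      sum_modEq_of_forall _ _ _ _ (fun M _ => hR M)
    rw [hdc] at h1
    have h4 := h1.trans h3
    rw [← Finset.card_filter, card_filter_cyclic_max] at h4
    have h5 := card_cyclic_max_dvd p hp2 n hG (by omega) hnc
    exact Nat.modEq_zero_iff_dvd.mp (h4.trans (Nat.modEq_zero_iff_dvd.mpr h5))
  · haveI : IsEmpty (CycSub G (p ^ s)) := by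
      constructor
      intro C
      have h1 : Nat.card C.1 ≤ Nat.card G := Subgroup.card_le_card_group C.1
      rw [C.2.2, hG] at h1
      have h2 : s ≤ n := (Nat.pow_le_pow_iff_right hp.one_lt).mp h1
      have h3 : s = n := by omega
      apply hnc
      have h4 : C.1 = ⊤ := by
        apply Subgroup.eq_top_of_card_eq
        rw [C.2.2, hG, h3]
      have h5 : IsCyclic (⊤ : Subgroup G) := h4 ▸ C.2.1
      exact (MulEquiv.isCyclic Subgroup.topEquiv).mp h5
    rw [Nat.card_of_isEmpty]
    exact dvd_zero p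

end CycSubCount

end Cfsg.Agent.Lib.Helper69
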