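import Mathlib

set_option autoImplicit false

/-!
Spanning orbits and fixed points (for S4176 / S4177).

* `exists_mul_of_coprime_index`: subgroups of coprime index factorise the group.
* `spanOrbit_core`: if the orbit of `a` spans, a subgroup `K` of order invertible in `k` is transitive
  on that orbit, and the orbit size is invertible in `k`, then every `K`-fixed vector is a multiple of
  one `H`-fixed vector.
-/

namespace Cfsg.Agent.Lib.Helper69

open Subgroup

theorem exists_mul_of_coprime_index {G : Type*} [Group G] [Finite G] (A B : Subgroup G)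
    (h : A.index.Coprime B.index) (g : G) : ∃ x ∈ A, ∃ y ∈ B, g = x * y := by
  classical
  -- the map A → G ⧸ B
  let f : A → G ⧸ B := fun x => (QuotientGroup.mk (x : G) : G ⧸ B)
  have h1 : (B.subgroupOf A).index ≤ Nat.card (Set.range f) := by
    apply Nat.card_le_card_of_injective
      (fun q : A ⧸ (B.subgroupOf A) => (⟨f q.out, Set.mem_range_self _⟩ : Set.range f))
    intro q q' hq
    have hq' : f q.out = f q'.out := congrArg Subtype.val hq
    have h2 : (q.out : G)⁻¹ * (q'.out : G) ∈ B := QuotientGroup.eq.mp hq'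
    have h3 : (QuotientGroup.mk q.out : A ⧸ (B.subgroupOf A)) = QuotientGroup.mk q'.out := by
      apply QuotientGroup.eq.mpr
      rw [Subgroup.mem_subgroupOf]
      simpa using h2
    simpa using h3
  have h2 : B.relIndex A * A.index = (A ⊓ B).index := by
    rw [← inf_relIndex_left, relIndex_mul_index inf_le_left]
  have h3 : B.index ∣ B.relIndex A := by
    have h4 : B.index ∣ B.relIndex A * A.index := by
      rw [h2]; exact index_dvd_of_le inf_le_right
    exact (Nat.Coprime.dvd_mul_right h.symm).mp h4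
  have hpos : 0 < B.relIndex A := Nat.pos_of_ne_zero (by
    have : (B.subgroupOf A).index ≠ 0 := Subgroup.index_ne_zero_of_finite
    exact this)
  have h5 : B.index ≤ Nat.card (Set.range f) := (Nat.le_of_dvd hpos h3).trans h1
  have h6 : Set.range f = Set.univ := by
    rw [Set.eq_univ_iff_ncard]
    apply le_antisymm
    · rw [← Nat.card_coe_set_eq]
      exact Nat.card_le_card_of_injective _ Subtype.val_injective
    · rw [← Nat.card_coe_set_eq]
      exact h5
  have h7 : (QuotientGroup.mk g : G ⧸ B) ∈ Set.range f := by rw [h6]; trivial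
  obtain ⟨x, hx⟩ := h7
  have h8 : (x : G)⁻¹ * g ∈ B := QuotientGroup.eq.mp hx
  exact ⟨x, x.2, _, h8, by group⟩

theorem spanOrbit_core {k V H : Type*} [Field k] [AddCommGroup V] [Module k V] [Group H] [Finite H]
    (ρ : Representation k H V) (a : V)
    (hspan : Submodule.span k {u : V | ∃ h : H, ρ h a = u} = ⊤)
    (K : Subgroup H) (hK : (Nat.card K : k) ≠ 0)
    (htrans : ∀ h : H, ∃ x ∈ K, ρ x a = ρ h a)
    (hO : (Nat.card {u : V | ∃ h : H, ρ h a = u} : k) ≠ 0) :
    ∃ T : V, (∀ h : H, ρ h T = T) ∧ ∀ v : V, (∀ x ∈ K, ρ x v = v) → ∃ c : k, v = c • T := by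
  classical
  have := Fintype.ofFinite H
  let E : V →ₗ[k] V := ∑ x : K, ρ (x : H)
  have hEapp : ∀ v, E v = ∑ x : K, ρ (x : H) v := by
    intro v
    simp [E, LinearMap.sum_apply]
  have hE1 : ∀ y ∈ K, ∀ v, E (ρ y v) = E v := by
    intro y hy v
    rw [hEapp, hEapp]
    apply Fintype.sum_equiv (Equiv.mulRight (⟨y, hy⟩ : K))
    intro x
    simp [map_mul]
  have hE2 : ∀ v, (∀ x ∈ K, ρ x v = v) → E v = (Nat.card K : k) • v := by
    intro v hv
    rw [hEapp]
    rw [Finset.sum_congr rfl (fun (x : K) _ => hv (x : H) x.2)]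
    simp [Nat.card_eq_fintype_card, Nat.cast_smul_eq_nsmul]
  have hE3 : ∀ h : H, E (ρ h a) = E a := by
    intro h
    obtain ⟨x, hx, hxa⟩ := htrans h
    rw [← hxa, hE1 x hx]
  have hE4 : ∀ v, ∃ c : k, E v = c • E a := by
    intro v
    have hv : v ∈ Submodule.span k {u : V | ∃ h : H, ρ h a = u} := by rw [hspan]; trivial
    induction hv using Submodule.span_induction with
    | mem u hu =>
      obtain ⟨h, rfl⟩ := hu
      exact ⟨1, by rw [hE3, one_smul]⟩
    | zero => exact ⟨0, by simp⟩
    | add u w _ _ hu hw =>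
      obtain ⟨c, hc⟩ := hu
      obtain ⟨d, hd⟩ := hw
      exact ⟨c + d, by rw [map_add, hc, hd, add_smul]⟩
    | smul r u _ hu =>
      obtain ⟨c, hc⟩ := hu
      exact ⟨r * c, by rw [map_smul, hc, smul_smul]⟩
  -- the orbit sum
  let O : Finset V := Finset.univ.image (fun h : H => ρ h a)
  have hOmem : ∀ u, u ∈ O ↔ ∃ h : H, ρ h a = u := by
    intro u; simp [O]
  have hOcard : Nat.card {u : V | ∃ h : H, ρ h a = u} = O.card := Nat.subtype_card O hOmem
  let T : V := ∑ u ∈ O, u
  have hT : ∀ h : H, ρ h T = T := by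
    intro h
    simp only [T, map_sum]
    apply Finset.sum_nbij' (fun u => ρ h u) (fun u => ρ h⁻¹ u)
    · intro u hu
      rw [hOmem] at hu ⊢
      obtain ⟨g, rfl⟩ := hu
      exact ⟨h * g, by simp [map_mul]⟩
    · intro u hu
      rw [hOmem] at hu ⊢
      obtain ⟨g, rfl⟩ := hu
      exact ⟨h⁻¹ * g, by simp [map_mul]⟩
    · intro u _
      rw [← Module.End.mul_apply, ← map_mul, inv_mul_cancel, map_one, Module.End.one_apply]
    · intro u _
      rw [← Module.End.mul_apply, ← map_mul, mul_inv_cancel, map_one, Module.End.one_apply]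
    · intro u _; rfl
  have hET1 : E T = (Nat.card K : k) • T := hE2 T (fun x _ => hT x)
  have hET2 : E T = (O.card : k) • E a := by
    simp only [T, map_sum]
    have hcongr : ∀ u ∈ O, E u = E a := by
      intro u hu
      obtain ⟨h, rfl⟩ := (hOmem u).mp hu
      exact hE3 h
    rw [Finset.sum_congr rfl hcongr]
    simp [Nat.cast_smul_eq_nsmul]
  rw [hOcard] at hO
  have hEa : E a = ((O.card : k)⁻¹ * (Nat.card K : k)) • T := by
    rw [mul_smul, ← hET1, hET2, smul_smul, inv_mul_cancel₀ hO, one_smul]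
  refine ⟨T, hT, ?_⟩
  intro v hv
  obtain ⟨c, hc⟩ := hE4 v
  rw [hE2 v hv] at hc
  refine ⟨(Nat.card K : k)⁻¹ * c * ((O.card : k)⁻¹ * (Nat.card K : k)), ?_⟩
  rw [mul_smul, ← hEa, mul_smul, ← hc, smul_smul, inv_mul_cancel₀ hK, one_smul]

theorem finrank_invariants_le_one {k V H : Type*} [Field k] [AddCommGroup V] [Module k V] [Group H]
    (ρ : Representation k H V) (T : V)
    (hT : ∀ v : V, (∀ h : H, ρ h v = v) → ∃ c : k, v = c • T) :
    Module.finrank k ρ.invariants ≤ 1 := by
  classical
  have hle : ρ.invariants ≤ Submodule.span k ({T} : Set V) := by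
    intro v hv
    obtain ⟨c, rfl⟩ := hT v hv
    exact Submodule.smul_mem _ _ (Submodule.mem_span_singleton_self T)
  calc Module.finrank k ρ.invariants ≤ Module.finrank k (Submodule.span k ({T} : Set V)) :=
        Submodule.finrank_mono hle
    _ ≤ 1 := by
        have := finrank_span_le_card (R := k) ({T} : Set V)
        simpa using this

/-- The stabiliser of a vector under a representation. -/
def repFixer {k V H : Type*} [Field k] [AddCommGroup V] [Module k V] [Group H]
    (ρ : Representation k H V) (v : V) : Subgroup H where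
  carrier := {h | ρ h v = v}
  mul_mem' := by
    intro x y hx hy
    simp only [Set.mem_ofPred_eq] at hx hy ⊢
    rw [map_mul, Module.End.mul_apply, hy, hx]
  one_mem' := by simp
  inv_mem' := by
    intro x hx
    simp only [Set.mem_ofPred_eq] at hx ⊢
    conv_lhs => rw [← hx]
    rw [← Module.End.mul_apply, ← map_mul, inv_mul_cancel, map_one, Module.End.one_apply]

theorem mem_repFixer {k V H : Type*} [Field k] [AddCommGroup V] [Module k V] [Group H]
    (ρ : Representation k H V) (v : V) (h : H) : h ∈ repFixer ρ v ↔ ρ h v = v := Iff.rfl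

theorem card_orbit_eq_index {k V H : Type*} [Field k] [AddCommGroup V] [Module k V] [Group H]
    (ρ : Representation k H V) (v : V) :
    Nat.card {u : V | ∃ h : H, ρ h v = u} = (repFixer ρ v).index := by
  rw [Subgroup.index]
  symm
  have hwd : ∀ x y : H, x⁻¹ * y ∈ repFixer ρ v → ρ x v = ρ y v := by
    intro x y hxy
    rw [mem_repFixer] at hxy
    have : ρ x (ρ (x⁻¹ * y) v) = ρ y v := by
      rw [← Module.End.mul_apply, ← map_mul, mul_inv_cancel_left]
    rw [← this, hxy]
  have hinj : ∀ x y : H, ρ x v = ρ y v → x⁻¹ * y ∈ repFixer ρ v := by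
    intro x y hxy
    rw [mem_repFixer, map_mul, Module.End.mul_apply, ← hxy, ← Module.End.mul_apply, ← map_mul,
      inv_mul_cancel, map_one, Module.End.one_apply]
  apply Nat.card_congr
  refine Equiv.ofBijective
    (fun q : H ⧸ repFixer ρ v => (⟨ρ q.out v, ⟨q.out, rfl⟩⟩ : {u : V | ∃ h : H, ρ h v = u})) ⟨?_, ?_⟩
  · intro q q' hq
    have h1 : ρ q.out v = ρ q'.out v := congrArg Subtype.val hq
    have h2 : (QuotientGroup.mk q.out : H ⧸ repFixer ρ v) = QuotientGroup.mk q'.out :=
      QuotientGroup.eq.mpr (hinj _ _ h1)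
    simpa using h2
  · rintro ⟨u, h, rfl⟩
    refine ⟨QuotientGroup.mk h, ?_⟩
    apply Subtype.ext
    apply hwd
    have h3 : (QuotientGroup.mk (QuotientGroup.mk h : H ⧸ repFixer ρ v).out : H ⧸ repFixer ρ v)
        = QuotientGroup.mk h := by simp
    exact QuotientGroup.eq.mp h3

end Cfsg.Agent.Lib.Helper69
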