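import Mathlib
import Cfsg.Prelude.Def_Transfer
import Cfsg.Agent.Lib.Helper69.SpanOrbit

set_option autoImplicit false

/-!
Small `p`-local toolkit.

* `exists_pExponents`: exponents `e`, `e'` with `x ^ e` the `p`-part and `x ^ e'` the `p'`-part.
* `centralizer_mul_of_coprime`: `C(xy) = C(x) ⊓ C(y)` for commuting `x` (a `p`-element) and `y`
  (a `p'`-element).
* `coprime_centralizes`: a `p'`-element `y` normalising a `p`-group `Q`, centralising some `x ∈ Q`
  and all of `C_Q(x)`, centralises `Q` (a special case of Thompson's `A × B` lemma).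
* `isPGroup_normalClosure`: the normal closure of a `p`-element whose class size is a power of `p`
  is a `p`-group.
* `hasNormalPComplement_of`: a normal subgroup of order prime to `p` and `p`-power index is a
  normal `p`-complement.
-/

namespace Cfsg.Agent.Lib.Helper69

open Subgroup

theorem exists_pExponents (p : ℕ) [Fact p.Prime] (G : Type*) [Group G] [Finite G] :
    ∃ e e' : ℕ, (∀ x : G, ∃ k, orderOf (x ^ e) = p ^ k) ∧ (∀ x : G, (orderOf (x ^ e')).Coprime p) ∧
      (∀ x : G, x ^ e * x ^ e' = x) ∧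
      (∀ s t : G, Commute s t → (∃ k, orderOf s = p ^ k) → (orderOf t).Coprime p →
        (s * t) ^ e = s ∧ (s * t) ^ e' = t) := by
  have hp : p.Prime := Fact.out
  obtain ⟨n, m, hm, hnm⟩ := Nat.exists_eq_pow_mul_and_not_dvd (Nat.card_pos (α := G)).ne' p hp.ne_one
  have hpm : Nat.Coprime p m := hp.coprime_iff_not_dvd.mpr hm
  have hcop : Nat.Coprime (p ^ n) m := Nat.Coprime.pow_left _ hpm
  obtain ⟨e, he1, he2⟩ := Nat.chineseRemainder hcop 1 0
  obtain ⟨e', he1', he2'⟩ := Nat.chineseRemainder hcop 0 1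
  have hme : m ∣ e := (Nat.modEq_zero_iff_dvd).mp he2
  have hpe' : p ^ n ∣ e' := (Nat.modEq_zero_iff_dvd).mp he1'
  have hpow : ∀ x : G, x ^ (p ^ n * m) = 1 := fun x => hnm ▸ pow_card_eq_one'
  have hord : ∀ x : G, orderOf x ∣ p ^ n * m := fun x => orderOf_dvd_of_pow_eq_one (hpow x)
  have hP : ∀ s : G, (∃ k, orderOf s = p ^ k) → orderOf s ∣ p ^ n := by
    rintro s ⟨k, hk⟩
    have hc : Nat.Coprime (orderOf s) m := by rw [hk]; exact Nat.Coprime.pow_left _ hpm
    exact hc.dvd_of_dvd_mul_right (hord s)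
  have hP' : ∀ t : G, (orderOf t).Coprime p → orderOf t ∣ m := by
    intro t ht
    have hc : Nat.Coprime (orderOf t) (p ^ n) := Nat.Coprime.pow_right _ ht
    exact hc.dvd_of_dvd_mul_left (hord t)
  refine ⟨e, e', ?_, ?_, ?_, ?_⟩
  · intro x
    have h1 : (x ^ e) ^ (p ^ n) = 1 := by
      obtain ⟨c, rfl⟩ := hme
      rw [← pow_mul, show m * c * p ^ n = (p ^ n * m) * c by ring, pow_mul, hpow, one_pow]
    obtain ⟨k, -, hk⟩ := (Nat.dvd_prime_pow hp).mp (orderOf_dvd_of_pow_eq_one h1)
    exact ⟨k, hk⟩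
  · intro x
    have h1 : (x ^ e') ^ m = 1 := by
      obtain ⟨c, rfl⟩ := hpe'
      rw [← pow_mul, show p ^ n * c * m = (p ^ n * m) * c by ring, pow_mul, hpow, one_pow]
    exact Nat.Coprime.coprime_dvd_left (orderOf_dvd_of_pow_eq_one h1) hpm.symm
  · intro x
    rw [← pow_add]
    have h1 : e + e' ≡ 1 [MOD p ^ n] := by simpa using he1.add he1'
    have h2 : e + e' ≡ 1 [MOD m] := by simpa using he2.add he2'
    have h3 : e + e' ≡ 1 [MOD p ^ n * m] := (Nat.modEq_and_modEq_iff_modEq_mul hcop).mp ⟨h1, h2⟩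
    have h4 : e + e' ≡ 1 [MOD orderOf x] := h3.of_dvd (hord x)
    have := pow_eq_pow_iff_modEq.mpr h4
    simpa using this
  · intro s t hst hs ht
    have hs1 : s ^ e = s := by
      have h4 : e ≡ 1 [MOD orderOf s] := he1.of_dvd (hP s hs)
      simpa using pow_eq_pow_iff_modEq.mpr h4
    have ht1 : t ^ e = 1 := orderOf_dvd_iff_pow_eq_one.mp (dvd_trans (hP' t ht) hme)
    have hs2 : s ^ e' = 1 := orderOf_dvd_iff_pow_eq_one.mp (dvd_trans (hP s hs) hpe')
    have ht2 : t ^ e' = t := by
      have h4 : e' ≡ 1 [MOD orderOf t] := he2'.of_dvd (hP' t ht)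
      simpa using pow_eq_pow_iff_modEq.mpr h4
    constructor
    · rw [hst.mul_pow, hs1, ht1, mul_one]
    · rw [hst.mul_pow, hs2, ht2, one_mul]

theorem centralizer_mul_of_coprime {G : Type*} [Group G] [Finite G] (p : ℕ) [Fact p.Prime]
    (x y : G) (hxy : Commute x y) (hx : ∃ k, orderOf x = p ^ k) (hy : (orderOf y).Coprime p) :
    centralizer ({x * y} : Set G) = centralizer ({x} : Set G) ⊓ centralizer ({y} : Set G) := by
  obtain ⟨e, e', -, -, -, h4⟩ := exists_pExponents p G
  obtain ⟨h5, h6⟩ := h4 x y hxy hx hy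
  ext g
  simp only [mem_inf, mem_centralizer_singleton_iff]
  constructor
  · intro hg
    have hc : Commute g (x * y) := hg
    exact ⟨h5 ▸ (hc.pow_right e).eq, h6 ▸ (hc.pow_right e').eq⟩
  · rintro ⟨h1, h2⟩
    have h1' : Commute g x := h1
    have h2' : Commute g y := h2
    exact (h1'.mul_right h2').eq

/-- A special case of Thompson's `A × B` lemma, elementwise. -/
theorem coprime_centralizes {G : Type*} [Group G] [Finite G] (p : ℕ) [Fact p.Prime]
    (Q : Subgroup G) (hQ : IsPGroup p Q) (y : G) (hyQ : ∀ u ∈ Q, y * u * y⁻¹ ∈ Q)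
    (hy : (orderOf y).Coprime p) (x : G) (hxQ : x ∈ Q) (hxy : x * y = y * x)
    (hC : ∀ z ∈ Q, z * x = x * z → z * y = y * z) :
    ∀ u ∈ Q, u * y = y * u := by
  have hp : p.Prime := Fact.out
  -- Step 1
  have key : ∀ u ∈ Q, y * (u * x * u⁻¹) = (u * x * u⁻¹) * y → u * y = y * u := by
    intro u hu hcomm
    set r := u⁻¹ * (y * u * y⁻¹) with hr
    have hrQ : r ∈ Q := Q.mul_mem (Q.inv_mem hu) (hyQ u hu)
    have hrx : r * x = x * r := by
      have h1 : y * u * y⁻¹ * x * (y * u * y⁻¹)⁻¹ = u * x * u⁻¹ := by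
        have h2 : y⁻¹ * x * y = x := by rw [mul_assoc, hxy, inv_mul_cancel_left]
        calc y * u * y⁻¹ * x * (y * u * y⁻¹)⁻¹ = y * (u * (y⁻¹ * x * y) * u⁻¹) * y⁻¹ := by group
          _ = y * (u * x * u⁻¹) * y⁻¹ := by rw [h2]
          _ = u * x * u⁻¹ := by rw [hcomm]; group
      have h3 : r * x * r⁻¹ = x := by
        calc r * x * r⁻¹ = u⁻¹ * (y * u * y⁻¹ * x * (y * u * y⁻¹)⁻¹) * u := by rw [hr]; group
          _ = u⁻¹ * (u * x * u⁻¹) * u := by rw [h1]
          _ = x := by group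
      calc r * x = r * x * r⁻¹ * r := by group
        _ = x * r := by rw [h3]
    have hry : r * y = y * r := hC r hrQ hrx
    have hconj : y * u * y⁻¹ = u * r := by rw [hr]; group
    have hpowconj : ∀ k : ℕ, y ^ k * u * (y ^ k)⁻¹ = u * r ^ k := by
      intro k
      induction k with
      | zero => simp
      | succ k ih =>
        have hryk : y * r ^ k * y⁻¹ = r ^ k := by
          have : Commute y (r ^ k) := (Commute.pow_right (show Commute y r from hry.symm) k)
          rw [this.eq]; group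
        calc y ^ (k + 1) * u * (y ^ (k + 1))⁻¹ = y * (y ^ k * u * (y ^ k)⁻¹) * y⁻¹ := by
              rw [pow_succ']; group
          _ = y * (u * r ^ k) * y⁻¹ := by rw [ih]
          _ = (y * u * y⁻¹) * (y * r ^ k * y⁻¹) := by group
          _ = u * r * r ^ k := by rw [hconj, hryk]
          _ = u * r ^ (k + 1) := by rw [pow_succ']; group
    have h1 := hpowconj (orderOf y)
    rw [pow_orderOf_eq_one] at h1
    have h2 : r ^ orderOf y = 1 := by
      have : u * r ^ orderOf y = u * 1 := by rw [← h1]; group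
      exact mul_left_cancel this
    have h3 : orderOf r ∣ orderOf y := orderOf_dvd_of_pow_eq_one h2
    obtain ⟨j, hj⟩ := hQ ⟨r, hrQ⟩
    have h4 : orderOf r ∣ p ^ j := by
      apply orderOf_dvd_of_pow_eq_one
      have := congrArg Subtype.val hj
      simpa using this
    have h5 : orderOf r = 1 := Nat.eq_one_of_dvd_coprimes (Nat.Coprime.pow_right j hy) h3 h4
    have h6 : r = 1 := orderOf_eq_one_iff.mp h5
    rw [h6, mul_one] at hconj
    calc u * y = (y * u * y⁻¹) * y := by rw [hconj]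
      _ = y * u := by group
  -- Step 2: normaliser condition in Q
  by_contra hcon
  push Not at hcon
  obtain ⟨u₀, hu₀Q, hu₀⟩ := hcon
  let R : Subgroup G := Q ⊓ centralizer ({y} : Set G)
  have hRmem : ∀ g, g ∈ R ↔ g ∈ Q ∧ g * y = y * g := by
    intro g
    simp only [R, mem_inf, mem_centralizer_singleton_iff]
  have hnil : Group.IsNilpotent Q := hQ.isNilpotent
  have hlt : R.subgroupOf Q < ⊤ := by
    rw [lt_top_iff_ne_top]
    intro htop
    have : (⟨u₀, hu₀Q⟩ : Q) ∈ R.subgroupOf Q := by rw [htop]; trivial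
    rw [mem_subgroupOf] at this
    exact hu₀ ((hRmem u₀).mp this).2
  have hnc := (Group.normalizerCondition_of_isNilpotent (G := Q)) (R.subgroupOf Q) hlt
  obtain ⟨u, huN, huR⟩ := SetLike.exists_of_lt hnc
  have hxR : (⟨x, hxQ⟩ : Q) ∈ R.subgroupOf Q := by
    rw [mem_subgroupOf]
    exact (hRmem x).mpr ⟨hxQ, hxy⟩
  have h1 : u * ⟨x, hxQ⟩ * u⁻¹ ∈ R.subgroupOf Q := (mem_normalizer_iff.mp huN _).mp hxR
  rw [mem_subgroupOf] at h1
  have h2 : ((u : G) * x * (u : G)⁻¹) * y = y * ((u : G) * x * (u : G)⁻¹) := by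
    have := ((hRmem _).mp h1).2
    simpa using this
  have h3 := key (u : G) u.2 h2.symm
  apply huR
  rw [mem_subgroupOf]
  exact (hRmem _).mpr ⟨u.2, h3⟩

theorem isPGroup_normalClosure {G : Type*} [Group G] [Finite G] (p : ℕ) [Fact p.Prime] (x : G)
    (hx : ∃ k, orderOf x = p ^ k) (hidx : ∃ a, (centralizer ({x} : Set G)).index = p ^ a) :
    IsPGroup p (normalClosure ({x} : Set G)) := by
  have hp : p.Prime := Fact.out
  obtain ⟨k, hk⟩ := hx
  obtain ⟨a, ha⟩ := hidx
  have hz : IsPGroup p (zpowers x) := IsPGroup.of_card (n := k) (by rw [Nat.card_zpowers, hk])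
  obtain ⟨S, hS⟩ := hz.exists_le_sylow
  have hxS : x ∈ (S : Subgroup G) := hS (mem_zpowers x)
  have hcop : (S : Subgroup G).index.Coprime (centralizer ({x} : Set G)).index := by
    rw [ha]; exact Nat.Coprime.pow_right a ((hp.coprime_iff_not_dvd.mpr S.not_dvd_index).symm)
  have hle : normalClosure ({x} : Set G) ≤ S := by
    rw [normalClosure]
    apply (closure_le _).mpr
    intro g hg
    rw [Group.mem_conjugatesOfSet_iff] at hg
    obtain ⟨b, hb, hconj⟩ := hg
    rw [Set.mem_singleton_iff] at hb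
    subst hb
    obtain ⟨c, rfl⟩ := isConj_iff.mp hconj
    obtain ⟨s, hs, z, hz', rfl⟩ :=
      exists_mul_of_coprime_index (S : Subgroup G) (centralizer {b}) hcop c
    have hzx : z * b = b * z := mem_centralizer_singleton_iff.mp hz'
    have h1 : s * z * b * (s * z)⁻¹ = s * b * s⁻¹ := by
      calc s * z * b * (s * z)⁻¹ = s * (z * b) * z⁻¹ * s⁻¹ := by group
        _ = s * (b * z) * z⁻¹ * s⁻¹ := by rw [hzx]
        _ = s * b * s⁻¹ := by group
    rw [SetLike.mem_coe, h1]
    exact (S : Subgroup G).mul_mem ((S : Subgroup G).mul_mem hs hxS) ((S : Subgroup G).inv_mem hs)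
  exact S.isPGroup'.to_le hle

theorem hasNormalPComplement_of {G : Type*} [Group G] [Finite G] (p : ℕ) [Fact p.Prime]
    (N : Subgroup G) [N.Normal] (h1 : (Nat.card N).Coprime p) (h2 : ∃ m : ℕ, N.index = p ^ m) :
    Cfsg.HasNormalPComplement p G := by
  have hp : p.Prime := Fact.out
  obtain ⟨m, hm⟩ := h2
  let P : Sylow p G := default
  refine ⟨P, N, inferInstance, ?_⟩
  have hP : Nat.card P = p ^ (Nat.card G).factorization p := P.card_eq_multiplicity
  have hG : Nat.card N * p ^ m = Nat.card G := by rw [← hm]; exact N.card_mul_index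
  have hfac : (Nat.card G).factorization p = m := by
    rw [← hG, Nat.factorization_mul (Nat.card_pos).ne' (pow_ne_zero _ hp.ne_zero),
      Finsupp.add_apply, Nat.factorization_eq_zero_of_not_dvd (hp.coprime_iff_not_dvd.mp h1.symm),
      zero_add, Nat.Prime.factorization_pow hp]
    simp
  apply isComplement'_of_coprime
  · rw [hP, hfac, hG]
  · rw [hP]; exact Nat.Coprime.pow_right _ h1

end Cfsg.Agent.Lib.Helper69
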