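import Mathlib
import Cfsg.Prelude.Def_Local
import Cfsg.Agent.Lib.Helper69.PLocal
import Cfsg.Agent.Lib.Helper69.PSolvable

set_option autoImplicit false

/-!
Cyclic Sylow subgroups: automorphisms induced by the normaliser, Burnside's criterion,
`p`-solubility.
-/

namespace Cfsg.Agent.Lib.Helper69

open Subgroup

theorem mem_normalizer_of_conj_mem {G : Type*} [Group G] [Finite G] (S : Subgroup G) (t : G)
    (h : ∀ u ∈ S, t * u * t⁻¹ ∈ S) : t ∈ normalizer (S : Set G) := by
  rw [mem_normalizer_iff]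
  intro v
  refine ⟨h v, fun hv => ?_⟩
  have hpow : ∀ j : ℕ, ∀ w ∈ S, t ^ j * w * (t ^ j)⁻¹ ∈ S := by
    intro j
    induction j with
    | zero => intro w hw; simpa using hw
    | succ j ih =>
      intro w hw
      have := h _ (ih w hw)
      have h2 : t ^ (j + 1) * w * (t ^ (j + 1))⁻¹ = t * (t ^ j * w * (t ^ j)⁻¹) * t⁻¹ := by
        rw [pow_succ']; group
      rw [h2]; exact this
  have h1 := hpow (orderOf t - 1) _ hv
  have h2 : t ^ (orderOf t - 1) = t⁻¹ := by
    have h3 : t ^ (orderOf t - 1) * t = 1 := by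
      rw [← pow_succ, Nat.sub_add_cancel (orderOf_pos t), pow_orderOf_eq_one]
    exact eq_inv_of_mul_eq_one_left h3
  rw [h2] at h1
  have h4 : t⁻¹ * (t * v * t⁻¹) * t⁻¹⁻¹ = v := by group
  rwa [h4] at h1

/-- An element of order prime to `p` normalising a cyclic `p`-group `S` and either centralising a
nontrivial element of `S` or acting trivially modulo a proper subgroup of `S`, centralises `S`. -/
theorem cyc_centralizes {G : Type*} [Group G] [Finite G] (p : ℕ) [Fact p.Prime] (S : Subgroup G)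
    (hS : IsPGroup p S) (hcyc : IsCyclic S) (t : G) (ht : t ∈ normalizer (S : Set G))
    (hto : (orderOf t).Coprime p)
    (h : (∃ z ∈ S, z ≠ 1 ∧ t * z = z * t) ∨
      (∃ Q : Subgroup G, Q < S ∧ ∀ u ∈ S, t * u * t⁻¹ * u⁻¹ ∈ Q)) :
    ∀ u ∈ S, t * u = u * t := by
  have hp : p.Prime := Fact.out
  obtain ⟨u₀, hu₀⟩ := hcyc.exists_generator
  set u : G := (u₀ : G) with hu
  have huS : u ∈ S := u₀.2
  have hpow : ∀ y ∈ S, ∃ m : ℕ, u ^ m = y := by
    intro y hy
    have h1 : (⟨y, hy⟩ : S) ∈ zpowers u₀ := hu₀ ⟨y, hy⟩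
    rw [← mem_powers_iff_mem_zpowers] at h1
    obtain ⟨m, hm⟩ := h1
    exact ⟨m, by have := congrArg Subtype.val hm; simpa using this⟩
  obtain ⟨n, hn⟩ : ∃ n, orderOf u = p ^ n := by
    obtain ⟨k, hk⟩ := hS u₀
    have : u ^ p ^ k = 1 := by simpa using congrArg Subtype.val hk
    obtain ⟨n, -, hn⟩ := (Nat.dvd_prime_pow hp).mp (orderOf_dvd_of_pow_eq_one this)
    exact ⟨n, hn⟩
  have htu : t * u * t⁻¹ ∈ S := (mem_normalizer_iff.mp ht u).mp huS
  obtain ⟨k, hk⟩ := hpow _ htu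
  suffices hcomm : t * u = u * t by
    intro y hy
    obtain ⟨m, rfl⟩ := hpow y hy
    exact ((show Commute t u from hcomm).pow_right m).eq
  rcases n with _ | n'
  · have : u = 1 := by rw [← orderOf_eq_one_iff, hn, pow_zero]
    rw [this]; simp
  have hconjpow : ∀ j : ℕ, t ^ j * u * (t ^ j)⁻¹ = u ^ (k ^ j) := by
    intro j
    induction j with
    | zero => simp
    | succ j ih =>
      calc t ^ (j + 1) * u * (t ^ (j + 1))⁻¹ = t * (t ^ j * u * (t ^ j)⁻¹) * t⁻¹ := by
            rw [pow_succ']; group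
        _ = t * u ^ (k ^ j) * t⁻¹ := by rw [ih]
        _ = (t * u * t⁻¹) ^ (k ^ j) := by rw [conj_pow]
        _ = u ^ (k ^ (j + 1)) := by rw [← hk, ← pow_mul, pow_succ']
  have hA : (p : ℤ) ∣ (k : ℤ) - 1 := by
    by_contra hnd
    have hpZ : Prime (p : ℤ) := Nat.prime_iff_prime_int.mp hp
    have hcop : IsCoprime ((p : ℤ) ^ (n' + 1)) ((k : ℤ) - 1) :=
      (hpZ.coprime_iff_not_dvd.mpr hnd).pow_left
    rcases h with ⟨z, hzS, hz1, hzt⟩ | ⟨Q, hQS, hQ⟩
    · obtain ⟨j, rfl⟩ := hpow z hzS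
      have h1 : t * u ^ j * t⁻¹ = u ^ (k * j) := by
        rw [← conj_pow, ← hk, ← pow_mul]
      have h2 : u ^ (k * j) = u ^ j := by
        rw [← h1, hzt]; group
      have h3 : k * j ≡ j [MOD p ^ (n' + 1)] := by
        rw [← hn]; exact pow_eq_pow_iff_modEq.mp h2
      have h4 : ((p ^ (n' + 1) : ℕ) : ℤ) ∣ (j : ℤ) - ((k * j : ℕ) : ℤ) := (Nat.modEq_iff_dvd).mp h3
      have h5 : ((p : ℤ) ^ (n' + 1)) ∣ ((k : ℤ) - 1) * j := by
        have : ((k : ℤ) - 1) * j = -((j : ℤ) - ((k * j : ℕ) : ℤ)) := by push_cast; ring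
        rw [this]
        push_cast at h4 ⊢
        exact (dvd_neg).mpr h4
      have h6 : ((p : ℤ) ^ (n' + 1)) ∣ (j : ℤ) := hcop.dvd_of_dvd_mul_left h5
      have h7 : p ^ (n' + 1) ∣ j := by exact_mod_cast h6
      apply hz1
      rw [← hn] at h7
      exact orderOf_dvd_iff_pow_eq_one.mp h7
    · have hq : t * u * t⁻¹ * u⁻¹ ∈ Q := hQ u huS
      rw [← hk] at hq
      obtain ⟨a, b, hab⟩ := hcop
      have h1 : u = (u ^ k * u⁻¹) ^ b := by
        have h2 : u ^ k * u⁻¹ = u ^ ((k : ℤ) - 1) := by rw [zpow_sub_one, zpow_natCast]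
        rw [h2, ← zpow_mul]
        have h3 : ((k : ℤ) - 1) * b = 1 - ((p ^ (n' + 1) : ℕ) : ℤ) * a := by push_cast; linarith
        rw [h3, zpow_sub, zpow_one, zpow_mul, zpow_natCast, ← hn, pow_orderOf_eq_one, one_zpow]
        simp
      have huQ : u ∈ Q := by rw [h1]; exact Q.zpow_mem hq b
      have hle : S ≤ Q := by
        intro y hy
        obtain ⟨m, rfl⟩ := hpow y hy
        exact Q.pow_mem huQ m
      exact (not_le_of_gt hQS) hle
  have hB : t ^ (p ^ n') * u * (t ^ (p ^ n'))⁻¹ = u := by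
    rw [hconjpow]
    have h1 : ((p : ℤ) ^ (n' + 1)) ∣ (k : ℤ) ^ p ^ n' - 1 ^ p ^ n' := dvd_sub_pow_of_dvd_sub hA n'
    rw [one_pow] at h1
    have h2 : k ^ p ^ n' ≡ 1 [MOD p ^ (n' + 1)] := by
      rw [Nat.modEq_iff_dvd]
      push_cast
      have : (1 : ℤ) - (k : ℤ) ^ p ^ n' = -((k : ℤ) ^ p ^ n' - 1) := by ring
      rw [this]
      exact (dvd_neg).mpr h1
    rw [← hn] at h2
    have := pow_eq_pow_iff_modEq.mpr h2
    simpa using this
  have hcop2 : Nat.Coprime (p ^ n') (orderOf t) := Nat.Coprime.pow_left n' hto.symm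
  have hC1 : Commute (t ^ (p ^ n')) u := by
    have : t ^ (p ^ n') * u = u * t ^ (p ^ n') := by
      calc t ^ (p ^ n') * u = t ^ (p ^ n') * u * (t ^ (p ^ n'))⁻¹ * t ^ (p ^ n') := by group
        _ = u * t ^ (p ^ n') := by rw [hB]
    exact this
  have hb := Nat.gcd_eq_gcd_ab (p ^ n') (orderOf t)
  rw [hcop2.gcd_eq_one] at hb
  have ht1 : t = (t ^ (p ^ n')) ^ (Nat.gcdA (p ^ n') (orderOf t)) := by
    rw [← zpow_natCast, ← zpow_mul]
    have h3 : ((p ^ n' : ℕ) : ℤ) * Nat.gcdA (p ^ n') (orderOf t)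
        = 1 - (orderOf t : ℤ) * Nat.gcdB (p ^ n') (orderOf t) := by
      push_cast at hb ⊢; linarith
    rw [h3, zpow_sub, zpow_one, zpow_mul, zpow_natCast, pow_orderOf_eq_one, one_zpow]
    simp
  have hfin : Commute t u := by rw [ht1]; exact hC1.zpow_left _
  exact hfin.eq

/-- Elements of a subgroup `M` normalising a cyclic Sylow `p`-subgroup `S` centralise it, provided
every such element of order prime to `p` centralises a nontrivial element of `S` or acts trivially
modulo a proper subgroup of `S`. -/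
theorem sylow_cyc_centralizes {G : Type*} [Group G] [Finite G] (p : ℕ) [Fact p.Prime] (S : Sylow p G)
    (hcyc : IsCyclic (S : Subgroup G)) (M : Subgroup G)
    (hM : ∀ t ∈ M, t ∈ normalizer ((S : Subgroup G) : Set G) → (orderOf t).Coprime p →
      (∃ z ∈ (S : Subgroup G), z ≠ 1 ∧ t * z = z * t) ∨
      (∃ Q : Subgroup G, Q < (S : Subgroup G) ∧ ∀ u ∈ (S : Subgroup G), t * u * t⁻¹ * u⁻¹ ∈ Q))
    (t : G) (htM : t ∈ M) (htN : t ∈ normalizer ((S : Subgroup G) : Set G)) :
    ∀ u ∈ (S : Subgroup G), t * u = u * t := by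
  obtain ⟨e, e', h1, h2, h3, -⟩ := exists_pExponents p G
  have hpart : t ^ e ∈ (S : Subgroup G) := by
    obtain ⟨k, hk⟩ := h1 t
    have hz : IsPGroup p (zpowers (t ^ e)) :=
      IsPGroup.of_card (n := k) (by rw [Nat.card_zpowers, hk])
    have h4 := hz.inf_normalizer_sylow S
    have hmem : t ^ e ∈ zpowers (t ^ e) ⊓ normalizer (S : Set G) :=
      ⟨mem_zpowers _, (normalizer _).pow_mem htN e⟩
    rw [h4] at hmem
    exact hmem.2
  have hcomm : ∀ a ∈ (S : Subgroup G), ∀ b ∈ (S : Subgroup G), a * b = b * a := by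
    intro a ha b hb
    have := hcyc
    have h5 := (IsCyclic.isMulCommutative (α := (S : Subgroup G))).is_comm.comm ⟨a, ha⟩ ⟨b, hb⟩
    simpa using congrArg Subtype.val h5
  have hpart' : ∀ u ∈ (S : Subgroup G), t ^ e' * u = u * t ^ e' :=
    cyc_centralizes p (S : Subgroup G) S.isPGroup' hcyc (t ^ e') ((normalizer _).pow_mem htN e')
      (h2 t) (hM (t ^ e') (M.pow_mem htM e') ((normalizer _).pow_mem htN e') (h2 t))
  intro u hu
  have h6 : Commute (t ^ e) u := hcomm _ hpart u hu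
  have h7 : Commute (t ^ e') u := hpart' u hu
  have h8 : Commute (t ^ e * t ^ e') u := h6.mul_left h7
  rw [h3 t] at h8
  exact h8.eq

/-- Sylow conjugacy inside a subgroup (after helper53's `exists_conj_le_sylow_of_le`). -/
theorem exists_conj_le_sylow_in {G : Type*} [Group G] [Finite G] {p : ℕ} [Fact p.Prime]
    (S : Sylow p G) {N Q : Subgroup G} (hSN : (S : Subgroup G) ≤ N) (hQN : Q ≤ N)
    (hQ : IsPGroup p Q) : ∃ n ∈ N, ∀ q ∈ Q, n * q * n⁻¹ ∈ (S : Subgroup G) := by
  have hQ' : IsPGroup p (Q.subgroupOf N) := hQ.comap_subtype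
  obtain ⟨R, hR⟩ := hQ'.exists_le_sylow
  obtain ⟨n, hn⟩ := MulAction.exists_smul_eq N R (S.subtype hSN)
  refine ⟨n, n.2, fun q hq => ?_⟩
  have h1 : (⟨q, hQN hq⟩ : N) ∈ (R : Subgroup N) :=
    hR (by simpa [Subgroup.mem_subgroupOf] using hq)
  have h2 : n * ⟨q, hQN hq⟩ * n⁻¹ ∈ ((n • R : Sylow p N) : Subgroup N) := by
    rw [Sylow.coe_subgroup_smul]
    exact ⟨_, h1, rfl⟩
  rw [hn] at h2
  simpa [Subgroup.mem_subgroupOf] using h2

/-- Let `P` be a cyclic Sylow `p`-subgroup of `G` and `H` a normal subgroup not containing `P`.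
Then every element of `H` normalising `P ⊓ H` centralises it. -/
theorem normalizer_inf_centralizes {G : Type*} [Group G] [Finite G] (p : ℕ) [Fact p.Prime]
    (P : Sylow p G) (hcyc : IsCyclic (P : Subgroup G)) (H : Subgroup G) [hH : H.Normal]
    (hPH : ¬ (P : Subgroup G) ≤ H) (g : G) (hgH : g ∈ H)
    (hgN : g ∈ normalizer (((P : Subgroup G) ⊓ H : Subgroup G) : Set G)) :
    ∀ u ∈ (P : Subgroup G) ⊓ H, g * u = u * g := by
  have hcomm : ∀ a ∈ (P : Subgroup G), ∀ b ∈ (P : Subgroup G), a * b = b * a := by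
    intro a ha b hb
    have := hcyc
    have h5 := (IsCyclic.isMulCommutative (α := (P : Subgroup G))).is_comm.comm ⟨a, ha⟩ ⟨b, hb⟩
    simpa using congrArg Subtype.val h5
  set Q : Subgroup G := (P : Subgroup G) ⊓ H with hQ
  have hQP : Q < (P : Subgroup G) := by
    refine lt_of_le_of_ne inf_le_left (fun h => hPH ?_)
    rw [← h]; exact inf_le_right
  let D : Subgroup G := centralizer (Q : Set G) ⊓ ((P : Subgroup G) ⊔ H)
  have hPD : (P : Subgroup G) ≤ D := by
    intro s hs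
    refine mem_inf.mpr ⟨?_, mem_sup_left hs⟩
    rw [mem_centralizer_iff]
    intro q hq
    exact hcomm q hq.1 s hs
  let B : Subgroup G := (P : Subgroup G).map (MulAut.conj g).toMonoidHom
  have hBmem : ∀ s ∈ (P : Subgroup G), g * s * g⁻¹ ∈ B := fun s hs => ⟨s, hs, rfl⟩
  have hBD : B ≤ D := by
    rintro _ ⟨s, hs, rfl⟩
    apply mem_inf.mpr
    constructor
    · rw [mem_centralizer_iff]
      intro q hq
      have hq' : g⁻¹ * q * g ∈ Q := by
        have := (mem_normalizer_iff.mp ((normalizer _).inv_mem hgN) q).mp hq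
        simpa using this
      have h1 : (g⁻¹ * q * g) * s = s * (g⁻¹ * q * g) := hcomm _ hq'.1 s hs
      show q * (g * s * g⁻¹) = (g * s * g⁻¹) * q
      calc q * (g * s * g⁻¹) = g * ((g⁻¹ * q * g) * s) * g⁻¹ := by group
        _ = g * (s * (g⁻¹ * q * g)) * g⁻¹ := by rw [h1]
        _ = (g * s * g⁻¹) * q := by group
    · have h1 : g * s * g⁻¹ = s * (s⁻¹ * g * s * g⁻¹) := by group
      show g * s * g⁻¹ ∈ (P : Subgroup G) ⊔ H
      rw [h1]
      apply mul_mem (mem_sup_left hs) (mem_sup_right _)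
      have h2 : s⁻¹ * g * s ∈ H := by
        have := hH.conj_mem g hgH s⁻¹
        simpa using this
      exact H.mul_mem h2 (H.inv_mem hgH)
  have hBp : IsPGroup p B := P.isPGroup'.map _
  obtain ⟨c, hcD, hc⟩ := exists_conj_le_sylow_in P hPD hBD hBp
  have hcg : c * g ∈ normalizer ((P : Subgroup G) : Set G) := by
    apply mem_normalizer_of_conj_mem
    intro s hs
    have h2 := hc (g * s * g⁻¹) (hBmem s hs)
    have h1 : c * g * s * (c * g)⁻¹ = c * (g * s * g⁻¹) * c⁻¹ := by group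
    rw [h1]; exact h2
  have hc2 : c ∈ (P : Subgroup G) ⊔ H := (mem_inf.mp hcD).2
  rw [mem_sup_of_normal_right] at hc2
  obtain ⟨s', hs', c₁, hc₁, rfl⟩ := hc2
  have hc₁Q : c₁ ∈ centralizer (Q : Set G) := by
    have h1 : s' ∈ centralizer (Q : Set G) := (mem_inf.mp (hPD hs')).1
    have h2 : c₁ = s'⁻¹ * (s' * c₁) := by group
    rw [h2]; exact mul_mem (inv_mem h1) (mem_inf.mp hcD).1
  have htH : c₁ * g ∈ H := H.mul_mem hc₁ hgH
  have htN : c₁ * g ∈ normalizer ((P : Subgroup G) : Set G) := by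
    have h1 : c₁ * g = s'⁻¹ * (s' * c₁ * g) := by group
    rw [h1]
    exact mul_mem (inv_mem (le_normalizer hs')) hcg
  have htcent := sylow_cyc_centralizes p P hcyc H
    (fun t' ht'H ht'N _ => Or.inr ⟨Q, hQP, fun u hu => by
      refine ⟨?_, ?_⟩
      · exact (P : Subgroup G).mul_mem ((mem_normalizer_iff.mp ht'N u).mp hu)
          ((P : Subgroup G).inv_mem hu)
      · have h2 : u * t'⁻¹ * u⁻¹ ∈ H := hH.conj_mem _ (H.inv_mem ht'H) u
        have h1 : t' * u * t'⁻¹ * u⁻¹ = t' * (u * t'⁻¹ * u⁻¹) := by group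
        rw [h1]; exact H.mul_mem ht'H h2⟩) (c₁ * g) htH htN
  intro u hu
  have h1 : c₁ * g * u = u * (c₁ * g) := htcent u hu.1
  have hgu : g * u * g⁻¹ ∈ Q := (mem_normalizer_iff.mp hgN u).mp hu
  have h2 : (g * u * g⁻¹) * c₁ = c₁ * (g * u * g⁻¹) := (mem_centralizer_iff.mp hc₁Q) _ hgu
  have h3 : g * u * g⁻¹ = u := by
    have h4 : (g * u * g⁻¹) * (c₁ * g) = u * (c₁ * g) := by
      calc (g * u * g⁻¹) * (c₁ * g) = ((g * u * g⁻¹) * c₁) * g := by group
        _ = (c₁ * (g * u * g⁻¹)) * g := by rw [h2]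
        _ = c₁ * g * u := by group
        _ = u * (c₁ * g) := h1
    exact mul_right_cancel h4
  calc g * u = (g * u * g⁻¹) * g := by group
    _ = u * g := by rw [h3]

/-- Elements of order prime to `p` lie in every normal subgroup of `p`-power index. -/
theorem mem_of_coprime_of_index_pow {X : Type*} [Group X] [Finite X] (p : ℕ) [Fact p.Prime]
    (N : Subgroup X) [N.Normal] (hidx : ∃ m : ℕ, N.index = p ^ m) (y : X)
    (hy : (orderOf y).Coprime p) : y ∈ N := by
  obtain ⟨m, hm⟩ := hidx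
  have h6 : orderOf (QuotientGroup.mk y : X ⧸ N) ∣ p ^ m := by
    rw [← hm, Subgroup.index_eq_card]
    exact orderOf_dvd_natCard _
  have h7 : orderOf (QuotientGroup.mk y : X ⧸ N) ∣ orderOf y :=
    orderOf_map_dvd (QuotientGroup.mk' N) y
  have h8 : orderOf (QuotientGroup.mk y : X ⧸ N) = 1 :=
    Nat.eq_one_of_dvd_coprimes (Nat.Coprime.pow_right m hy) h7 h6
  exact (QuotientGroup.eq_one_iff y).mp (orderOf_eq_one_iff.mp h8)

/-- A normal Hall `p'`-subgroup of a normal subgroup is normal in the whole group. -/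
theorem normal_map_subtype_of_coprime_of_index_pow {G : Type*} [Group G] [Finite G] (p : ℕ)
    [Fact p.Prime] (D : Subgroup G) [hDn : D.Normal] (L₀ : Subgroup D) [L₀.Normal]
    (hcard : (Nat.card L₀).Coprime p) (hidx : ∃ m : ℕ, L₀.index = p ^ m) :
    (L₀.map D.subtype).Normal := by
  constructor
  intro k hk g
  obtain ⟨k₀, hk₀, rfl⟩ := hk
  have hgk : g * (k₀ : G) * g⁻¹ ∈ D := hDn.conj_mem _ k₀.2 g
  refine ⟨⟨g * (k₀ : G) * g⁻¹, hgk⟩, ?_, rfl⟩
  apply mem_of_coprime_of_index_pow p L₀ hidx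
  rw [Subgroup.orderOf_mk]
  have h1 : orderOf (k₀ : G) = orderOf (g * (k₀ : G) * g⁻¹) :=
    SemiconjBy.orderOf_eq g (by unfold SemiconjBy; group)
  rw [← h1, Subgroup.orderOf_coe]
  have h5 : orderOf (⟨k₀, hk₀⟩ : L₀) ∣ Nat.card L₀ := orderOf_dvd_natCard _
  rw [Subgroup.orderOf_mk] at h5
  exact Nat.Coprime.coprime_dvd_left h5 hcard

/-- Extension: if `N ⊴ G` is a `p`-group or a `p'`-group and `G ⧸ N` is `p`-soluble, so is `G`. -/
theorem isPSolvable_of_quotient {G : Type*} [Group G] [Finite G] (p : ℕ) [Fact p.Prime]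
    (N : Subgroup G) [N.Normal] (hN : (∃ m : ℕ, Nat.card N = p ^ m) ∨ (Nat.card N).Coprime p)
    (h : Cfsg.IsPSolvable p (G ⧸ N)) : Cfsg.IsPSolvable p G := by
  obtain ⟨n, S, h0, hlast, hmono, hnorm, hfac⟩ := h
  have hf : Function.Surjective (QuotientGroup.mk' N) := QuotientGroup.mk'_surjective N
  refine ⟨n + 1, (Fin.cons ⊥ (fun i => (S i).comap (QuotientGroup.mk' N)) :
    Fin (n + 1 + 1) → Subgroup G), ?_, ?_, ?_, ?_, ?_⟩
  · rfl
  · rw [← Fin.succ_last, Fin.cons_succ, hlast, comap_top]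
  · rw [Fin.monotone_iff_le_succ]
    intro i
    refine Fin.cases ?_ (fun j => ?_) i
    · simp
    · rw [← Fin.succ_castSucc, Fin.cons_succ, Fin.cons_succ]
      exact comap_mono (hmono (Fin.castSucc_le_succ j))
  · intro i
    refine Fin.cases ?_ (fun j => ?_) i
    · rw [Fin.cons_zero]; infer_instance
    · rw [Fin.cons_succ]; exact (hnorm j).comap _
  · intro i
    refine Fin.cases ?_ (fun j => ?_) i
    · rw [Fin.castSucc_zero, Fin.cons_zero, Fin.cons_succ, h0, relIndex_bot_left]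
      have h1 : (⊥ : Subgroup (G ⧸ N)).comap (QuotientGroup.mk' N) = N := by
        rw [MonoidHom.comap_bot, QuotientGroup.ker_mk']
      rw [h1]; exact hN
    · rw [← Fin.succ_castSucc, Fin.cons_succ, Fin.cons_succ]
      have h1 : ((S j.castSucc).comap (QuotientGroup.mk' N)).relIndex
          ((S j.succ).comap (QuotientGroup.mk' N)) = (S j.castSucc).relIndex (S j.succ) := by
        rw [relIndex_comap, map_comap_eq_self_of_surjective hf]
      rw [h1]; exact hfac j

/-- A finite group with a cyclic Sylow `p`-subgroup and a nontrivial normal `p`-subgroup is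
`p`-soluble. -/
theorem isPSolvable_of_cyclic_sylow_of_normal {X : Type*} [Group X] [Finite X] (p : ℕ)
    [Fact p.Prime] (S : Sylow p X) (hcyc : IsCyclic (S : Subgroup X)) (R : Subgroup X)
    [hRn : R.Normal] (hR : IsPGroup p R) (hR1 : R ≠ ⊥) : Cfsg.IsPSolvable p X := by
  have hp : p.Prime := Fact.out
  have hRS : R ≤ S := hR.le_sylow_of_normal S
  have hcomm : ∀ a ∈ (S : Subgroup X), ∀ b ∈ (S : Subgroup X), a * b = b * a := by
    intro a ha b hb
    have := hcyc
    have h5 := (IsCyclic.isMulCommutative (α := (S : Subgroup X))).is_comm.comm ⟨a, ha⟩ ⟨b, hb⟩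
    simpa using congrArg Subtype.val h5
  let D : Subgroup X := centralizer (R : Set X)
  have hDn : D.Normal := inferInstance
  have hSD : (S : Subgroup X) ≤ D :=
    fun s hs => mem_centralizer_iff.mpr (fun r hr => hcomm r (hRS hr) s hs)
  let SD : Sylow p D := S.subtype hSD
  have hSDmem : ∀ d : D, d ∈ (SD : Subgroup D) ↔ (d : X) ∈ (S : Subgroup X) := by
    intro d
    rw [Sylow.coe_subtype, mem_subgroupOf]
  obtain ⟨z, hzR, hz1⟩ := (R.bot_or_exists_ne_one).resolve_left hR1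
  have hNC : normalizer ((SD : Subgroup D) : Set D) ≤ centralizer ((SD : Subgroup D) : Set D) := by
    intro n hn
    rw [mem_centralizer_iff]
    intro s hs
    have hnN : (n : X) ∈ normalizer ((S : Subgroup X) : Set X) := by
      apply mem_normalizer_of_conj_mem
      intro u hu
      have h1 : (⟨u, hSD hu⟩ : D) ∈ (SD : Subgroup D) := (hSDmem _).mpr hu
      have h2 := (mem_normalizer_iff.mp hn ⟨u, hSD hu⟩).mp h1
      rw [hSDmem] at h2
      simpa using h2
    have h3 := sylow_cyc_centralizes p S hcyc D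
      (fun t htD _ _ => Or.inl ⟨z, hRS hzR, hz1, ((mem_centralizer_iff.mp htD) z hzR).symm⟩)
      (n : X) n.2 hnN (s : X) ((hSDmem s).mp hs)
    exact Subtype.ext h3.symm
  have hcompl := MonoidHom.ker_transferSylow_isComplement' SD hNC
  set L₀ : Subgroup D := (MonoidHom.transferSylow SD hNC).ker with hL₀
  have hL₀n : L₀.Normal := by rw [hL₀]; infer_instance
  have hL₀idx : L₀.index = Nat.card SD := hcompl.symm.index_eq_card
  obtain ⟨m, hm⟩ := (IsPGroup.iff_card).mp SD.isPGroup'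
  have hL₀card : (Nat.card L₀).Coprime p := by
    have h1 : (SD : Subgroup D).index = Nat.card L₀ := hcompl.index_eq_card
    rw [← h1]; exact (hp.coprime_iff_not_dvd.mpr SD.not_dvd_index).symm
  let L : Subgroup X := L₀.map D.subtype
  have hLn : L.Normal := by
    constructor
    intro k hk g
    obtain ⟨k₀, hk₀, rfl⟩ := hk
    have hgk : g * (k₀ : X) * g⁻¹ ∈ D := hDn.conj_mem _ k₀.2 g
    refine ⟨⟨g * (k₀ : X) * g⁻¹, hgk⟩, ?_, rfl⟩
    apply mem_of_coprime_of_index_pow p L₀ ⟨m, by rw [hL₀idx, hm]⟩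
    rw [Subgroup.orderOf_mk]
    have h1 : orderOf (k₀ : X) = orderOf (g * (k₀ : X) * g⁻¹) :=
      SemiconjBy.orderOf_eq g (by unfold SemiconjBy; group)
    rw [← h1, Subgroup.orderOf_coe]
    have h5 : orderOf (⟨k₀, hk₀⟩ : L₀) ∣ Nat.card L₀ := orderOf_dvd_natCard _
    rw [Subgroup.orderOf_mk] at h5
    exact Nat.Coprime.coprime_dvd_left h5 hL₀card
  refine ⟨3, ![⊥, L, D, ⊤], rfl, rfl, ?_, ?_, ?_⟩
  · rw [Fin.monotone_iff_le_succ]
    intro i
    fin_cases i
    · exact bot_le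
    · exact map_subtype_le L₀
    · exact le_top
  · intro i
    fin_cases i
    · exact (inferInstance : (⊥ : Subgroup X).Normal)
    · exact hLn
    · exact hDn
    · exact (inferInstance : (⊤ : Subgroup X).Normal)
  · intro i
    fin_cases i
    · right
      show ((⊥ : Subgroup X).relIndex L).Coprime p
      rw [relIndex_bot_left, card_map_of_injective D.subtype_injective]
      exact hL₀card
    · left
      refine ⟨m, ?_⟩
      show L.relIndex D = p ^ m
      have h1 : L.subgroupOf D = L₀ := comap_map_eq_self_of_injective D.subtype_injective L₀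
      rw [relIndex, h1, hL₀idx, hm]
    · right
      show (D.relIndex ⊤).Coprime p
      rw [relIndex_top_right]
      have h1 : D.index ∣ (S : Subgroup X).index := index_dvd_of_le hSD
      exact Nat.Coprime.coprime_dvd_left h1 (hp.coprime_iff_not_dvd.mpr S.not_dvd_index).symm

end Cfsg.Agent.Lib.Helper69
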