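import Mathlib
import Cfsg.Agent.Lib.Lead.Frobenius

/-!
Wielandt's generalisation of Frobenius' theorem, via induced class functions.

If `N ≤ G` and `f : N →* Q` is a surjective homomorphism such that every element of `N`
having a conjugate in `N` by an element outside `N` lies in the kernel of `f`, then there is
a normal subgroup `K` of `G` with `K ∩ N = ker f` and `|K| * |Q| = |G|`.
-/

set_option autoImplicit false

namespace Cfsg.Agent.Lib.Helper69

open scoped ComplexConjugate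
open Cfsg.Agent.Lib

universe u

section wielandt

variable {G : Type u} [Group G]

/-- Induction from a subgroup `N`, for a class function vanishing on the `N`-elements that
are conjugates, by elements outside `N`, of elements of `N`. -/
theorem indFun_apply_of_vanish [Fintype G] (N : Subgroup G) (φ : N → ℂ)
    (hφ : Cfsg.IsClassFunction N φ)
    (hv : ∀ g : G, g ∉ N → ∀ x : N, ∀ hx : g⁻¹ * (x : G) * g ∈ N,
      φ ⟨g⁻¹ * (x : G) * g, hx⟩ = 0)
    (n : N) : Cfsg.indFun N φ (n : G) = φ n := by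
  classical
  unfold Cfsg.indFun
  have hterm : ∀ x : G, Cfsg.extendByZero N φ (x⁻¹ * (n : G) * x) =
      if x ∈ N then φ n else 0 := by
    intro x
    split_ifs with hx
    · have hmem : x⁻¹ * (n : G) * x ∈ N := N.mul_mem (N.mul_mem (N.inv_mem hx) n.2) hx
      rw [Helper3.extendByZero_of_mem _ φ hmem]
      have h2 := hφ n (⟨x, hx⟩⁻¹ : N)
      rw [inv_inv] at h2
      rw [← h2]
      rfl
    · by_cases hmem : x⁻¹ * (n : G) * x ∈ N
      · rw [Helper3.extendByZero_of_mem _ φ hmem]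
        exact hv x hx n hmem
      · exact Helper3.extendByZero_of_not_mem _ φ hmem
  simp_rw [hterm]
  rw [← Finset.sum_filter, Finset.sum_const, nsmul_eq_mul]
  have hcard : ((Finset.univ.filter (fun x : G => x ∈ N)).card : ℂ) = (Nat.card N : ℂ) := by
    congr 1
    rw [Nat.card_eq_fintype_card, Fintype.card_subtype]
  rw [hcard, ← mul_assoc, inv_mul_cancel₀, one_mul]
  exact_mod_cast Nat.card_pos.ne'

/-- The induced function vanishes at `g` when the inducing function vanishes at all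
conjugates of `g` lying in the subgroup. -/
theorem indFun_eq_zero_of_vanish [Fintype G] (N : Subgroup G) (φ : N → ℂ) (g : G)
    (hv : ∀ c : G, ∀ hc : c⁻¹ * g * c ∈ N, φ ⟨c⁻¹ * g * c, hc⟩ = 0) :
    Cfsg.indFun N φ g = 0 := by
  unfold Cfsg.indFun
  rw [Finset.sum_eq_zero, mul_zero]
  intro c _
  by_cases hc : c⁻¹ * g * c ∈ N
  · rw [Helper3.extendByZero_of_mem _ φ hc]
    exact hv c hc
  · exact Helper3.extendByZero_of_not_mem _ φ hc

/-- Summing a function over the fibres of a surjective homomorphism. -/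
theorem sum_comp_surj {N Q : Type*} [Group N] [Fintype N] [Group Q] [Fintype Q] (f : N →* Q)
    (hf : Function.Surjective f) :
    ∃ c : ℕ, c * Nat.card Q = Nat.card N ∧
      ∀ F : Q → ℂ, ∑ n : N, F (f n) = (c : ℂ) * ∑ q : Q, F q := by
  classical
  have hfib : ∀ q : Q, (Finset.univ.filter (fun n : N => f n = q)).card =
      (Finset.univ.filter (fun n : N => f n = 1)).card := fun q =>
    MonoidHom.card_fiber_eq_of_mem_range f (hf q) ⟨1, map_one f⟩
  have hsum : ∀ F : Q → ℂ, ∑ n : N, F (f n) =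
      ((Finset.univ.filter (fun n : N => f n = 1)).card : ℂ) * ∑ q : Q, F q := by
    intro F
    rw [← Finset.sum_fiberwise (Finset.univ) f (fun n => F (f n)), Finset.mul_sum]
    refine Finset.sum_congr rfl (fun q _ => ?_)
    have : ∀ n ∈ Finset.univ.filter (fun n : N => f n = q), F (f n) = F q := by
      intro n hn
      rw [(Finset.mem_filter.mp hn).2]
    rw [Finset.sum_congr rfl this, Finset.sum_const, hfib, nsmul_eq_mul]
  refine ⟨_, ?_, hsum⟩
  have h1 := hsum (fun _ => 1)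
  simp only [Finset.sum_const, Finset.card_univ, nsmul_eq_mul, mul_one] at h1
  rw [Nat.card_eq_fintype_card, Nat.card_eq_fintype_card]
  exact_mod_cast h1.symm

/-- Inner products are preserved by inflation along a surjective homomorphism. -/
theorem classInner_comp_surj {N Q : Type u} [Group N] [Fintype N] [Group Q] [Fintype Q]
    (f : N →* Q) (hf : Function.Surjective f) (a b : Q → ℂ) :
    Cfsg.classInner (fun n : N => a (f n)) (fun n : N => b (f n)) = Cfsg.classInner a b := by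
  obtain ⟨c, hc, hsum⟩ := sum_comp_surj f hf
  unfold Cfsg.classInner
  rw [hsum (fun q => a q * conj (b q))]
  have hQ : (Nat.card Q : ℂ) ≠ 0 := by exact_mod_cast Nat.card_pos.ne'
  have hN : (Nat.card N : ℂ) ≠ 0 := by exact_mod_cast Nat.card_pos.ne'
  have hc' : (c : ℂ) * (Nat.card Q : ℂ) = (Nat.card N : ℂ) := by exact_mod_cast hc
  have hc0 : (c : ℂ) ≠ 0 := by
    intro h
    rw [h, zero_mul] at hc'
    exact hN hc'.symm
  rw [← hc']
  field_simp

variable (N : Subgroup G) {Q : Type u} [Group Q] (f : N →* Q)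

theorem conj_mem_ker_of_hA
    (hA : ∀ g : G, g ∉ N → ∀ x : N, g⁻¹ * (x : G) * g ∈ N → f x = 1)
    (g : G) (hg : g ∉ N) (x : N) (hx : g⁻¹ * (x : G) * g ∈ N) :
    f ⟨g⁻¹ * (x : G) * g, hx⟩ = 1 := by
  apply hA g⁻¹ (fun h => hg (by simpa using N.inv_mem h)) ⟨g⁻¹ * (x : G) * g, hx⟩
  simp only [inv_inv]
  have : g * (g⁻¹ * (x : G) * g) * g⁻¹ = x := by group
  rw [this]
  exact x.2

theorem frobStar_comp_coe [Fintype G]
    (hA : ∀ g : G, g ∉ N → ∀ x : N, g⁻¹ * (x : G) * g ∈ N → f x = 1)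
    {θ : Q → ℂ} (hθ : Cfsg.IsClassFunction Q θ) (n : N) :
    Lead.frobStar N (fun n : N => θ (f n)) (n : G) = θ (f n) := by
  unfold Lead.frobStar
  rw [indFun_apply_of_vanish N _ ?_ ?_ n]
  · ring
  · intro a b
    show θ (f (b * a * b⁻¹)) - θ (f 1) = θ (f a) - θ (f 1)
    rw [map_mul, map_mul, map_inv, hθ]
  · intro g hg x hx
    show θ (f ⟨g⁻¹ * (x : G) * g, hx⟩) - θ (f 1) = 0
    rw [conj_mem_ker_of_hA N f hA g hg x hx, map_one, sub_self]

theorem isIrrCharacter_frobStar_comp [Fintype G] [Fintype N] [Fintype Q]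
    (hf : Function.Surjective f)
    (hA : ∀ g : G, g ∉ N → ∀ x : N, g⁻¹ * (x : G) * g ∈ N → f x = 1)
    (θ : Cfsg.IrrCharacter Q) (hne : (θ : Q → ℂ) ≠ fun _ => 1) :
    Cfsg.IsIrrCharacter G (Lead.frobStar N (fun n : N => (θ : Q → ℂ) (f n))) := by
  classical
  have : Fintype (Cfsg.IrrCharacter G) := Fintype.ofFinite _
  have hθ := θ.2
  have hθc : Cfsg.IsCharacter Q (θ : Q → ℂ) := Helper3.isCharacter_of_irr hθ
  have hθcf : Cfsg.IsClassFunction Q (θ : Q → ℂ) := Helper3.isClassFunction_of_isCharacter hθc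
  have hθN : Cfsg.IsCharacter N (fun n : N => (θ : Q → ℂ) (f n)) := by
    obtain ⟨n, ρ, hρ⟩ := hθc
    exact ⟨n, ρ.comp f, by rw [← hρ]; rfl⟩
  obtain ⟨n, hn, hn1⟩ := Helper81.irr_one_eq θ
  have i1Q : Cfsg.IsIrrCharacter Q (fun _ => (1 : ℂ)) := Helper81.isIrrCharacter_one
  have i1N : Cfsg.IsIrrCharacter N (fun _ => (1 : ℂ)) := Helper81.isIrrCharacter_one
  have i1G : Cfsg.IsIrrCharacter G (fun _ => (1 : ℂ)) := Helper81.isIrrCharacter_one
  have c1G : Cfsg.IsClassFunction G (fun _ => (1 : ℂ)) := fun _ _ => rfl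
  have hres : (fun h : N => Lead.frobStar N (fun n : N => (θ : Q → ℂ) (f n)) (h : G)) =
      (fun n : N => (θ : Q → ℂ) (f n)) :=
    funext (frobStar_comp_coe N f hA hθcf)
  have hval1 : (θ : Q → ℂ) (f 1) = n := by rw [map_one, hn1]
  have hinn1 : Cfsg.classInner (fun n : N => (θ : Q → ℂ) (f n))
      (fun n : N => (θ : Q → ℂ) (f n)) = 1 := by
    rw [classInner_comp_surj f hf, Helper3.classInner_irr_self hθ]
  have hinn2 : Cfsg.classInner (fun n : N => (θ : Q → ℂ) (f n)) (fun _ : N => (1 : ℂ)) = 0 := by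
    have := classInner_comp_surj f hf (θ : Q → ℂ) (fun _ => (1 : ℂ))
    rw [this, Helper3.classInner_irr_ne hθ i1Q hne]
  have hinn3 : Cfsg.classInner (fun _ : N => (1 : ℂ)) (fun n : N => (θ : Q → ℂ) (f n)) = 0 := by
    have := classInner_comp_surj f hf (fun _ => (1 : ℂ)) (θ : Q → ℂ)
    rw [this, Helper3.classInner_irr_ne i1Q hθ (fun h => hne h.symm)]
  apply Lead.isIrrCharacter_of_int (Lead.isClassFunction_frobStar N _)
  · intro ψ
    have hψc : Cfsg.IsCharacter G (ψ : G → ℂ) := Helper3.isCharacter_of_irr ψ.2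
    rw [Lead.classInner_frobStar N _ (Helper3.isClassFunction_of_isCharacter hψc)]
    obtain ⟨a, ha⟩ := Helper75.classInner_char_nat hθN (Helper75.isCharacter_res N hψc)
    obtain ⟨b, hb⟩ := Helper75.classInner_char_nat (Helper3.isCharacter_of_irr i1N)
      (Helper75.isCharacter_res N hψc)
    obtain ⟨c, hc⟩ := Helper75.classInner_char_nat (Helper3.isCharacter_of_irr i1G) hψc
    refine ⟨(a : ℤ) - n * b + n * c, ?_⟩
    rw [ha, hb, hc, hval1]
    push_cast
    ring
  · rw [Lead.classInner_frobStar N _ (Lead.isClassFunction_frobStar N _), hres, hinn1, hinn3]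
    have h0 : Cfsg.classInner (fun _ : G => (1 : ℂ))
        (Lead.frobStar N (fun n : N => (θ : Q → ℂ) (f n))) = 0 := by
      rw [Helper75.classInner_conj_symm, Lead.classInner_frobStar N _ c1G, hinn2,
        Helper3.classInner_irr_self i1N, Helper3.classInner_irr_self i1G]
      simp
    rw [h0]
    simp
  · have h1 := frobStar_comp_coe N f hA hθcf (1 : N)
    rw [Subgroup.coe_one] at h1
    rw [h1, map_one, hn1]
    simp only [Complex.natCast_re]
    exact_mod_cast hn

end wielandt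

/-- **Wielandt's theorem** (generalising Frobenius' theorem). -/
theorem wielandt_normal_complement {G : Type u} [Group G] [Finite G] (N : Subgroup G)
    {Q : Type u} [Group Q] [Finite Q] (f : N →* Q) (hf : Function.Surjective f)
    (hA : ∀ g : G, g ∉ N → ∀ x : N, g⁻¹ * (x : G) * g ∈ N → f x = 1) :
    ∃ K : Subgroup G, K.Normal ∧ (∀ x : N, (x : G) ∈ K ↔ f x = 1) ∧
      (∀ g : G, g ∈ K ↔ ∀ c : G, ∀ hc : c⁻¹ * g * c ∈ N, f ⟨c⁻¹ * g * c, hc⟩ = 1) ∧
      Nat.card K * Nat.card Q = Nat.card G := by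
  classical
  have : Fintype G := Fintype.ofFinite G
  have : Fintype N := Fintype.ofFinite N
  have : Fintype Q := Fintype.ofFinite Q
  have : Fintype (Cfsg.IrrCharacter Q) := Fintype.ofFinite _
  let S : Cfsg.IrrCharacter Q → G → ℂ :=
    fun θ => Lead.frobStar N (fun n : N => (θ : Q → ℂ) (f n))
  have hirr : ∀ t : {θ : Cfsg.IrrCharacter Q // (θ : Q → ℂ) ≠ fun _ => 1},
      Cfsg.IsIrrCharacter G (S t.1) :=
    fun t => isIrrCharacter_frobStar_comp N f hf hA t.1 t.2
  choose n ρ hρirr hρchar using hirr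
  let K : Subgroup G := ⨅ t, MonoidHom.ker (ρ t)
  have hKn : K.Normal := Subgroup.normal_iInf_normal (fun t => inferInstance)
  have hθcf : ∀ θ : Cfsg.IrrCharacter Q, Cfsg.IsClassFunction Q (θ : Q → ℂ) := fun θ =>
    Helper3.isClassFunction_of_isCharacter (Helper3.isCharacter_of_irr θ.2)
  have hcoe : ∀ (θ : Cfsg.IrrCharacter Q) (x : N), S θ (x : G) = (θ : Q → ℂ) (f x) :=
    fun θ x => frobStar_comp_coe N f hA (hθcf θ) x
  have hone : ∀ θ : Cfsg.IrrCharacter Q, S θ 1 = (θ : Q → ℂ) 1 := by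
    intro θ
    have h1 := hcoe θ (1 : N)
    rwa [Subgroup.coe_one, map_one] at h1
  have key : ∀ (g : G), g ∈ K ↔ ∀ t : {θ : Cfsg.IrrCharacter Q // (θ : Q → ℂ) ≠ fun _ => 1},
      S t.1 g = (t.1 : Q → ℂ) 1 := by
    intro g
    rw [Subgroup.mem_iInf]
    refine forall_congr' (fun t => ?_)
    rw [MonoidHom.mem_ker]
    have h1 := Helper3.character_eq_finrank_iff (ρ t) g
    have h2 : (Module.finrank ℂ (Fin (n t) → ℂ) : ℂ) = (t.1 : Q → ℂ) 1 := by
      rw [← Representation.char_one (ρ t), hρchar t, hone]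
    rw [hρchar t, h2] at h1
    rw [h1]
    rfl
  have hKN : ∀ x : N, (x : G) ∈ K ↔ f x = 1 := by
    intro x
    constructor
    · intro hxK
      have hall : ∀ θ : Cfsg.IrrCharacter Q, (θ : Q → ℂ) (f x) = (θ : Q → ℂ) 1 := by
        intro θ
        by_cases hne : (θ : Q → ℂ) = fun _ => 1
        · rw [hne]
        · have h1 := (key x).mp hxK ⟨θ, hne⟩
          rw [← hcoe θ x]
          exact h1
      have hreg := Helper3.regular_expansion (G := Q) (f x)
      have hsq := Helper3.sum_degree_sq (G := Q)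
      by_contra hx1
      rw [if_neg hx1] at hreg
      have h3 : ∑ χ : Cfsg.IrrCharacter Q, (χ : Q → ℂ) 1 * (χ : Q → ℂ) (f x) =
          ∑ χ : Cfsg.IrrCharacter Q, (χ : Q → ℂ) 1 ^ 2 :=
        Finset.sum_congr rfl (fun χ _ => by rw [hall χ]; ring)
      rw [h3, hsq] at hreg
      have : (Nat.card Q : ℂ) ≠ 0 := by exact_mod_cast Nat.card_pos.ne'
      exact this hreg.symm
    · intro hx
      rw [key]
      intro t
      rw [hcoe, hx]
  have hdesc : ∀ g : G, g ∈ K ↔
      ∀ c : G, ∀ hc : c⁻¹ * g * c ∈ N, f ⟨c⁻¹ * g * c, hc⟩ = 1 := by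
    intro g
    constructor
    · intro hg c hc
      have hcK : c⁻¹ * g * c ∈ K := by
        have := hKn.conj_mem g hg c⁻¹
        simpa using this
      exact (hKN ⟨c⁻¹ * g * c, hc⟩).mp hcK
    · intro hg
      rw [key]
      intro t
      show Cfsg.indFun N (fun h : N => (t.1 : Q → ℂ) (f h) - (t.1 : Q → ℂ) (f 1)) g +
        (t.1 : Q → ℂ) (f 1) = (t.1 : Q → ℂ) 1
      rw [indFun_eq_zero_of_vanish N _ g, map_one, zero_add]
      intro c hc
      show (t.1 : Q → ℂ) (f ⟨c⁻¹ * g * c, hc⟩) - (t.1 : Q → ℂ) (f 1) = 0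
      rw [hg c hc, map_one, sub_self]
  refine ⟨K, hKn, hKN, hdesc, ?_⟩
  -- counting
  let φ₀ : N → ℂ := fun x => if f x = 1 then 0 else 1
  have hφ₀cf : Cfsg.IsClassFunction N φ₀ := by
    intro a b
    show (if f (b * a * b⁻¹) = 1 then (0 : ℂ) else 1) = if f a = 1 then 0 else 1
    have : f (b * a * b⁻¹) = 1 ↔ f a = 1 := by
      rw [map_mul, map_mul, map_inv]
      constructor
      · intro h
        have h' : f a = (f b)⁻¹ * (f b * f a * (f b)⁻¹) * f b := by group
        rw [h', h]; group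
      · intro h; rw [h]; group
    simp only [this]
  have hval : ∀ g : G, Cfsg.indFun N φ₀ g = if g ∈ K then 0 else 1 := by
    intro g
    by_cases hgK : g ∈ K
    · rw [if_pos hgK]
      apply indFun_eq_zero_of_vanish
      intro c hc
      show (if f ⟨c⁻¹ * g * c, hc⟩ = 1 then (0 : ℂ) else 1) = 0
      rw [if_pos ((hdesc g).mp hgK c hc)]
    · rw [if_neg hgK]
      have hex : ¬ ∀ c : G, ∀ hc : c⁻¹ * g * c ∈ N, f ⟨c⁻¹ * g * c, hc⟩ = 1 :=
        fun h => hgK ((hdesc g).mpr h)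
      push Not at hex
      obtain ⟨c, hc, hfc⟩ := hex
      have h4 := Helper3.isClassFunction_indFun N φ₀ (c⁻¹ * g * c) c
      have h5 : c * (c⁻¹ * g * c) * c⁻¹ = g := by group
      rw [h5] at h4
      rw [h4]
      have h3 := indFun_apply_of_vanish N φ₀ hφ₀cf (by
        intro g' hg' x hx
        show (if f ⟨g'⁻¹ * (x : G) * g', hx⟩ = 1 then (0 : ℂ) else 1) = 0
        rw [if_pos (conj_mem_ker_of_hA N f hA g' hg' x hx)]) ⟨c⁻¹ * g * c, hc⟩
      rw [h3]
      show (if f ⟨c⁻¹ * g * c, hc⟩ = 1 then (0 : ℂ) else 1) = 1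
      rw [if_neg hfc]
  have hsum : Cfsg.classInner (Cfsg.indFun N φ₀) (fun _ : G => (1 : ℂ)) =
      Cfsg.classInner φ₀ (fun _ : N => (1 : ℂ)) :=
    Helper3.frobenius_reciprocity N φ₀ (fun _ => (1 : ℂ)) (fun _ _ => rfl)
  unfold Cfsg.classInner at hsum
  simp only [map_one, mul_one] at hsum
  simp_rw [hval] at hsum
  obtain ⟨c, hc, hcs⟩ := sum_comp_surj f hf
  have h6 : ∑ g : G, (if g ∈ K then (0 : ℂ) else 1) = (Nat.card G : ℂ) - (Nat.card K : ℂ) := by
    have h7 : ∀ g : G, (if g ∈ K then (0 : ℂ) else 1) = 1 - (if g ∈ K then (1 : ℂ) else 0) := by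
      intro g; split_ifs <;> simp
    simp_rw [h7]
    rw [Finset.sum_sub_distrib, Finset.sum_boole]
    simp only [Finset.sum_const, Finset.card_univ, nsmul_eq_mul, mul_one]
    rw [Nat.card_eq_fintype_card, Nat.card_eq_fintype_card, Fintype.card_subtype]
  have h8 : ∑ x : N, φ₀ x = (c : ℂ) * ((Nat.card Q : ℂ) - 1) := by
    have h9 := hcs (fun q => if q = 1 then (0 : ℂ) else 1)
    have h10 : ∑ q : Q, (if q = 1 then (0 : ℂ) else 1) = (Nat.card Q : ℂ) - 1 := by
      have h11 : ∀ q : Q, (if q = 1 then (0 : ℂ) else 1) = 1 - (if q = 1 then (1 : ℂ) else 0) := by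
        intro q; split_ifs <;> simp
      simp_rw [h11]
      rw [Finset.sum_sub_distrib, Finset.sum_ite_eq' Finset.univ (1 : Q),
        if_pos (Finset.mem_univ _)]
      simp only [Finset.sum_const, Finset.card_univ, nsmul_eq_mul, mul_one]
      rw [Nat.card_eq_fintype_card]
    rw [h10] at h9
    exact h9
  rw [h6, h8] at hsum
  have hG0 : (Nat.card G : ℂ) ≠ 0 := by exact_mod_cast Nat.card_pos.ne'
  have hN0 : (Nat.card N : ℂ) ≠ 0 := by exact_mod_cast Nat.card_pos.ne'
  have hQ0 : (Nat.card Q : ℂ) ≠ 0 := by exact_mod_cast Nat.card_pos.ne'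
  have hc' : (c : ℂ) * (Nat.card Q : ℂ) = (Nat.card N : ℂ) := by exact_mod_cast hc
  have hc0 : (c : ℂ) ≠ 0 := by
    intro h
    rw [h, zero_mul] at hc'
    exact hN0 hc'.symm
  rw [← hc'] at hsum
  field_simp at hsum
  have hfin : (Nat.card K : ℂ) * (Nat.card Q : ℂ) = (Nat.card G : ℂ) := by
    linear_combination -hsum
  exact_mod_cast hfin

end Cfsg.Agent.Lib.Helper69
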