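import Mathlib
import Cfsg.Agent.Lib.Helper69.PCount
import Cfsg.Agent.Lib.Helper66.SubgroupCount

set_option autoImplicit false

/-!
Kulakoff's theorem: in a noncyclic group of order `p ^ n`, `p` odd, the number of subgroups of
order `p ^ k`, `0 < k < n`, is `≡ 1 + p (mod p²)`.
-/

namespace Cfsg.Agent.Lib.Helper69

open Subgroup

section Kulakoff

variable {G : Type*} [Group G]

theorem card_inf_of_ne [Finite G] (p : ℕ) [Fact p.Prime] (n : ℕ) (hG : Nat.card G = p ^ n)
    (M1 M2 : Subgroup G) (h1 : M1.index = p) (h2 : M2.index = p) (hne : M1 ≠ M2) :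
    Nat.card (M1 ⊓ M2 : Subgroup G) = p ^ (n - 2) ∧ 2 ≤ n := by
  have hp : p.Prime := Fact.out
  have hPG : IsPGroup p G := IsPGroup.of_card hG
  haveI := normal_of_index_eq_prime p hPG M2 h2
  have hc1 := (card_of_index_eq_prime p n hG M1 h1).1
  have hc2 := (card_of_index_eq_prime p n hG M2 h2).1
  have hsup : M2 ⊔ M1 = ⊤ := by
    have h3 : (M2 ⊔ M1).index ∣ p := h2 ▸ Subgroup.index_dvd_of_le (le_sup_left : M2 ≤ M2 ⊔ M1)
    rcases (Nat.dvd_prime hp).mp h3 with h | h
    · exact Subgroup.index_eq_one.mp h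
    · exfalso
      have hc3 := (card_of_index_eq_prime p n hG _ h).1
      have h4 : M2 = M2 ⊔ M1 := Subgroup.eq_of_le_of_card_ge le_sup_left (by rw [hc3, hc2])
      have h5 : M1 ≤ M2 := by rw [h4]; exact le_sup_right
      exact hne (Subgroup.eq_of_le_of_card_ge h5 (by rw [hc1, hc2]))
  have hrel : M2.relIndex M1 = p := by
    rw [← Subgroup.relIndex_sup_left M1 M2, hsup, Subgroup.relIndex_top_right, h2]
  have hidx : (M1 ⊓ M2 : Subgroup G).index = p * p := by
    rw [← Subgroup.relIndex_mul_index (inf_le_left : M1 ⊓ M2 ≤ M1), h1, inf_comm,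
      Subgroup.inf_relIndex_right, hrel]
  have hcard := Subgroup.card_mul_index (M1 ⊓ M2 : Subgroup G)
  rw [hidx, hG] at hcard
  have hn : 2 ≤ n := by
    have h3 : p ^ 2 ∣ p ^ n := by
      rw [sq]; exact Dvd.intro_left _ hcard
    exact (Nat.pow_dvd_pow_iff_le_right hp.one_lt).mp h3
  refine ⟨?_, hn⟩
  have h4 : p ^ n = p ^ (n - 2) * (p * p) := by
    rw [← sq, ← pow_add]; congr 1; omega
  rw [h4] at hcard
  exact Nat.eq_of_mul_eq_mul_right (Nat.mul_pos hp.pos hp.pos) hcard

universe u

/-- **Kulakoff**: the number of subgroups of order `p ^ k` (`0 < k < n`) of a noncyclic group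
of order `p ^ n`, `p` odd, is `≡ 1 + p (mod p²)`. -/
theorem kulakoff (p : ℕ) [Fact p.Prime] (hp2 : p ≠ 2) :
    ∀ (n : ℕ) (G : Type u) [Group G] [Finite G], Nat.card G = p ^ n → ¬ IsCyclic G →
      ∀ k, 1 ≤ k → k < n → (Nat.card (OrdSub G (p ^ k)) : ZMod (p ^ 2)) = 1 + p := by
  intro n
  induction n using Nat.strong_induction_on with
  | _ n ih =>
  intro G _ _ hG hnc k hk1 hkn
  classical
  have hp : p.Prime := Fact.out
  have hPG : IsPGroup p G := IsPGroup.of_card hG
  have hsq := sq_cast_zmod p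
  haveI : Fintype (MaxOver p (⊥ : Subgroup G)) := Fintype.ofFinite _
  have hbt : (⊥ : Subgroup G) ≠ ⊤ := by
    intro h
    apply hnc
    haveI : Subsingleton G := by
      rw [← Subgroup.subsingleton_iff]
      exact subsingleton_of_bot_eq_top h
    exact isCyclic_of_subsingleton
  have hμ : (Nat.card (MaxOver p (⊥ : Subgroup G)) : ZMod (p ^ 2)) = 1 + p := by
    rcases card_maxOver_cases p hPG ⊥ hbt with h | ⟨_, h⟩
    · have := two_le_card_maxOver_bot p hPG hnc
      omega
    · exact h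
  by_cases hk : k + 1 = n
  · have e : OrdSub G (p ^ k) ≃ MaxOver p (⊥ : Subgroup G) :=
      { toFun := fun H => ⟨H.1, by
          have h1 := Subgroup.card_mul_index H.1
          rw [H.2, hG, ← hk, pow_succ] at h1
          exact Nat.eq_of_mul_eq_mul_left (pow_pos hp.pos k) h1, bot_le⟩
        invFun := fun M => ⟨M.1, by
          rw [(card_of_index_eq_prime p n hG M.1 M.2.1).1]
          congr 1; omega⟩
        left_inv := fun _ => rfl
        right_inv := fun _ => rfl }
    rw [Nat.card_congr e]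
    exact hμ
  · have hkn2 : k + 2 ≤ n := by omega
    haveI : Fintype (OrdSub G (p ^ k)) := Fintype.ofFinite _
    let sf : Subgroup G → ℕ := fun H => Nat.card (OrdSub H (p ^ k))
    let mC : OrdSub G (p ^ k) → ℕ := fun C => Nat.card (MaxOver p C.1)
    have hE1 := sum_card_comm
      (fun (C : OrdSub G (p ^ k)) (M : MaxOver p (⊥ : Subgroup G)) => C.1 ≤ M.1)
    have hE2 := sum_card_comm
      (fun (C : OrdSub G (p ^ k))
        (MM : MaxOver p (⊥ : Subgroup G) × MaxOver p (⊥ : Subgroup G)) =>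
          C.1 ≤ MM.1.1 ⊓ MM.2.1)
    have hC1 : ∀ C : OrdSub G (p ^ k),
        Nat.card {M : MaxOver p (⊥ : Subgroup G) // C.1 ≤ M.1} = mC C := by
      intro C
      exact Nat.card_congr ⟨fun M => ⟨M.1.1, M.1.2.1, M.2⟩,
        fun M => ⟨⟨M.1, M.2.1, bot_le⟩, M.2.2⟩, fun _ => rfl, fun _ => rfl⟩
    have hC2 : ∀ C : OrdSub G (p ^ k),
        Nat.card {MM : MaxOver p (⊥ : Subgroup G) × MaxOver p (⊥ : Subgroup G) //
          C.1 ≤ MM.1.1 ⊓ MM.2.1} = mC C * mC C := by
      intro C
      rw [← Nat.card_prod]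
      exact Nat.card_congr
        ⟨fun MM => (⟨MM.1.1.1, MM.1.1.2.1, (le_inf_iff.mp MM.2).1⟩,
            ⟨MM.1.2.1, MM.1.2.2.1, (le_inf_iff.mp MM.2).2⟩),
          fun x => ⟨(⟨x.1.1, x.1.2.1, bot_le⟩, ⟨x.2.1, x.2.2.1, bot_le⟩),
            le_inf x.1.2.2 x.2.2.2⟩, fun _ => rfl, fun _ => rfl⟩
    have hCt : ∀ C : OrdSub G (p ^ k), C.1 ≠ ⊤ := by
      intro C h
      have h1 : Nat.card C.1 = Nat.card G := by rw [h, Subgroup.card_top]
      rw [C.2, hG] at h1
      have := Nat.pow_right_injective hp.two_le h1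
      omega
    have hC3 : ∀ C : OrdSub G (p ^ k),
        ((mC C : ZMod (p ^ 2))) * (2 - (mC C : ZMod (p ^ 2))) = 1 := by
      intro C
      rcases card_maxOver_cases p hPG C.1 (hCt C) with h | ⟨_, h⟩
      · have : mC C = 1 := h
        rw [this]; push_cast; ring
      · have : (mC C : ZMod (p ^ 2)) = 1 + p := h
        rw [this]
        linear_combination (-1 : ZMod (p ^ 2)) * hsq
    have hM : ∀ M : MaxOver p (⊥ : Subgroup G),
        Nat.card {C : OrdSub G (p ^ k) // C.1 ≤ M.1} = sf M.1 :=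
      fun M => (Nat.card_congr (ordSubEquiv M.1 (p ^ k))).symm
    have hMM : ∀ MM : MaxOver p (⊥ : Subgroup G) × MaxOver p (⊥ : Subgroup G),
        Nat.card {C : OrdSub G (p ^ k) // C.1 ≤ MM.1.1 ⊓ MM.2.1} = sf (MM.1.1 ⊓ MM.2.1) :=
      fun MM => (Nat.card_congr (ordSubEquiv _ (p ^ k))).symm
    simp only [hC1, hM] at hE1
    simp only [hC2, hMM] at hE2
    -- E4
    have hsfM : ∀ M : MaxOver p (⊥ : Subgroup G),
        (sf M.1 : ZMod (p ^ 2)) = (1 + p) - p * (if IsCyclic M.1 then 1 else 0) := by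
      intro M
      have hcM := (card_of_index_eq_prime p n hG M.1 M.2.1).1
      by_cases hc : IsCyclic M.1
      · rw [if_pos hc]
        haveI := hc
        have : sf M.1 = 1 :=
          card_ordSub_of_isCyclic p k (by rw [hcM]; exact pow_dvd_pow p (by omega))
        rw [this]; push_cast; ring
      · rw [if_neg hc]
        have := ih (n - 1) (by omega) M.1 hcM hc k hk1 (by omega)
        show (Nat.card (OrdSub M.1 (p ^ k)) : ZMod (p ^ 2)) = _
        rw [this]; ring
    have hA : ∑ M : MaxOver p (⊥ : Subgroup G), (sf M.1 : ZMod (p ^ 2)) = 1 + 2 * p := by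
      rw [Finset.sum_congr rfl (fun M _ => hsfM M), Finset.sum_sub_distrib, Finset.sum_const,
        Finset.card_univ, nsmul_eq_mul, ← Finset.mul_sum, Finset.sum_boole,
        card_filter_cyclic_max, ← Nat.card_eq_fintype_card, hμ]
      obtain ⟨t, ht⟩ := card_cyclic_max_dvd p hp2 n hG (by omega) hnc
      rw [ht]
      push_cast
      linear_combination (1 - (t : ZMod (p ^ 2))) * hsq
    -- E5
    have hD : ∀ M1 : MaxOver p (⊥ : Subgroup G),
        ∑ M2 ∈ Finset.univ.erase M1, (sf (M1.1 ⊓ M2.1) : ZMod (p ^ 2)) = p := by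
      intro M1
      have hsf1 : ∀ M2 ∈ Finset.univ.erase M1, sf (M1.1 ⊓ M2.1) = p * (sf (M1.1 ⊓ M2.1) / p) + 1 := by
        intro M2 hM2
        have hne : M1.1 ≠ M2.1 := by
          intro h
          exact (Finset.mem_erase.mp hM2).1 (Subtype.ext h.symm)
        have hcH := (card_inf_of_ne p n hG M1.1 M2.1 M1.2.1 M2.2.1 hne).1
        have h1 : sf (M1.1 ⊓ M2.1) ≡ 1 [MOD p] :=
          Cfsg.Agent.Lib.Helper66.card_subgroups_pow_modEq_one p k
            (by rw [hcH]; exact pow_dvd_pow p (by omega))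
        have h2 : sf (M1.1 ⊓ M2.1) % p = 1 := by
          have := h1
          unfold Nat.ModEq at this
          rw [this]
          exact Nat.mod_eq_of_lt hp.one_lt
        have h3 := Nat.div_add_mod (sf (M1.1 ⊓ M2.1)) p
        omega
      have hdvd : p ∣ ∑ M2 ∈ Finset.univ.erase M1, (sf (M1.1 ⊓ M2.1) / p) := by
        rw [Finset.sum_comp (fun H : Subgroup G => sf H / p)
          (fun M2 : MaxOver p (⊥ : Subgroup G) => M1.1 ⊓ M2.1)]
        apply Finset.dvd_sum
        intro b hb
        obtain ⟨M20, hM20, rfl⟩ := Finset.mem_image.mp hb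
        have hne0 : M1.1 ≠ M20.1 := by
          intro h
          exact (Finset.mem_erase.mp hM20).1 (Subtype.ext h.symm)
        have hcb := (card_inf_of_ne p n hG M1.1 M20.1 M1.2.1 M20.2.1 hne0).1
        rw [smul_eq_mul]
        apply Dvd.dvd.mul_right
        -- the fibre
        have hfil : (Finset.univ.erase M1).filter
            (fun a : MaxOver p (⊥ : Subgroup G) => M1.1 ⊓ a.1 = M1.1 ⊓ M20.1) =
            Finset.univ.filter (fun a : MaxOver p (⊥ : Subgroup G) =>
              a ≠ M1 ∧ M1.1 ⊓ a.1 = M1.1 ⊓ M20.1) := by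
          ext a
          simp [Finset.mem_erase]
        rw [hfil, ← Fintype.card_subtype, ← Nat.card_eq_fintype_card]
        let M1b : MaxOver p (M1.1 ⊓ M20.1) := ⟨M1.1, M1.2.1, inf_le_left⟩
        have e : {a : MaxOver p (⊥ : Subgroup G) // a ≠ M1 ∧ M1.1 ⊓ a.1 = M1.1 ⊓ M20.1} ≃
            {M : MaxOver p (M1.1 ⊓ M20.1) // M ≠ M1b} :=
          { toFun := fun a => ⟨⟨a.1.1, a.1.2.1, le_of_eq_of_le a.2.2.symm inf_le_right⟩, by
              intro h
              apply a.2.1
              apply Subtype.ext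
              exact congrArg (fun z : MaxOver p (M1.1 ⊓ M20.1) => z.1) h⟩
            invFun := fun M => ⟨⟨M.1.1, M.1.2.1, bot_le⟩, by
              have hne' : M1.1 ≠ M.1.1 := by
                intro h
                apply M.2
                apply Subtype.ext
                exact h.symm
              refine ⟨?_, ?_⟩
              · intro h
                exact hne' (congrArg Subtype.val h).symm
              · symm
                apply Subgroup.eq_of_le_of_card_ge (le_inf inf_le_left M.1.2.2)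
                rw [hcb, (card_inf_of_ne p n hG M1.1 M.1.1 M1.2.1 M.1.2.1 hne').1]⟩
            left_inv := fun _ => rfl
            right_inv := fun _ => rfl }
        rw [Nat.card_congr e]
        have h3 := Nat.card_congr (Equiv.optionSubtypeNe M1b)
        rw [Finite.card_option] at h3
        have hbne : (M1.1 ⊓ M20.1 : Subgroup G) ≠ ⊤ := by
          intro h
          have h4 : Nat.card (M1.1 ⊓ M20.1 : Subgroup G) = Nat.card G := by
            rw [h, Subgroup.card_top]
          rw [hcb, hG] at h4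
          have := Nat.pow_right_injective hp.two_le h4
          omega
        have h4 := card_maxOver_modEq p hPG _ hbne
        rw [← h3] at h4
        exact Nat.modEq_zero_iff_dvd.mp (Nat.ModEq.add_right_cancel' 1 (by simpa using h4))
      obtain ⟨q, hq⟩ := hdvd
      have hcast : ∑ M2 ∈ Finset.univ.erase M1, (sf (M1.1 ⊓ M2.1) : ZMod (p ^ 2)) =
          ∑ M2 ∈ Finset.univ.erase M1,
            ((p : ZMod (p ^ 2)) * ((sf (M1.1 ⊓ M2.1) / p : ℕ) : ZMod (p ^ 2)) + 1) := by
        apply Finset.sum_congr rfl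
        intro M2 hM2
        conv_lhs => rw [hsf1 M2 hM2]
        push_cast
        ring
      rw [hcast, Finset.sum_add_distrib, ← Finset.mul_sum, ← Nat.cast_sum, hq, Finset.sum_const,
        Finset.card_erase_of_mem (Finset.mem_univ M1), Finset.card_univ]
      have hcard1 : Fintype.card (MaxOver p (⊥ : Subgroup G)) - 1 + 1 =
          Nat.card (MaxOver p (⊥ : Subgroup G)) := by
        rw [Nat.card_eq_fintype_card]
        have : 0 < Fintype.card (MaxOver p (⊥ : Subgroup G)) := Fintype.card_pos_iff.mpr ⟨M1⟩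
        omega
      have hcard2 : ((Fintype.card (MaxOver p (⊥ : Subgroup G)) - 1 : ℕ) : ZMod (p ^ 2)) = p := by
        have h5 := congrArg (Nat.cast : ℕ → ZMod (p ^ 2)) hcard1
        rw [hμ] at h5
        push_cast at h5
        linear_combination h5
      rw [nsmul_eq_mul, mul_one, hcard2]
      push_cast
      linear_combination (q : ZMod (p ^ 2)) * hsq
    have hB : ∑ MM : MaxOver p (⊥ : Subgroup G) × MaxOver p (⊥ : Subgroup G),
        (sf (MM.1.1 ⊓ MM.2.1) : ZMod (p ^ 2)) = 1 + 3 * p := by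
      rw [Fintype.sum_prod_type]
      have h1 : ∀ M1 : MaxOver p (⊥ : Subgroup G),
          ∑ M2 : MaxOver p (⊥ : Subgroup G), (sf (M1.1 ⊓ M2.1) : ZMod (p ^ 2)) =
            (sf M1.1 : ZMod (p ^ 2)) + p := by
        intro M1
        rw [← Finset.add_sum_erase Finset.univ _ (Finset.mem_univ M1), hD M1, inf_idem]
      rw [Finset.sum_congr rfl (fun M1 _ => h1 M1), Finset.sum_add_distrib, hA, Finset.sum_const,
        Finset.card_univ, nsmul_eq_mul, ← Nat.card_eq_fintype_card, hμ]
      linear_combination hsq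
    -- assemble
    have hX : (Nat.card (OrdSub G (p ^ k)) : ZMod (p ^ 2)) =
        ∑ _C : OrdSub G (p ^ k), (1 : ZMod (p ^ 2)) := by
      rw [Finset.sum_const, Finset.card_univ, Nat.card_eq_fintype_card, nsmul_eq_mul, mul_one]
    have h1 : ∑ C : OrdSub G (p ^ k), ((mC C : ZMod (p ^ 2))) = 1 + 2 * p := by
      rw [← hA, ← Nat.cast_sum, hE1, Nat.cast_sum]
    have h2 : ∑ C : OrdSub G (p ^ k), ((mC C : ZMod (p ^ 2)) * (mC C : ZMod (p ^ 2))) =
        1 + 3 * p := by
      rw [← hB, ← Nat.cast_sum (Finset.univ : Finset (MaxOver p (⊥ : Subgroup G) ×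
        MaxOver p (⊥ : Subgroup G))), ← hE2]
      push_cast
      rfl
    rw [hX, Finset.sum_congr rfl (fun C _ => (hC3 C).symm)]
    have h3 : ∑ C : OrdSub G (p ^ k), ((mC C : ZMod (p ^ 2)) * (2 - (mC C : ZMod (p ^ 2)))) =
        2 * ∑ C : OrdSub G (p ^ k), ((mC C : ZMod (p ^ 2))) -
          ∑ C : OrdSub G (p ^ k), ((mC C : ZMod (p ^ 2)) * (mC C : ZMod (p ^ 2))) := by
      rw [Finset.mul_sum, ← Finset.sum_sub_distrib]
      apply Finset.sum_congr rfl
      intro C _
      ring
    rw [h3, h1, h2]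
    ring

end Kulakoff

end Cfsg.Agent.Lib.Helper69
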